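import Cfsg.Agent.H886.FC.ClassB
import Cfsg.Agent.H277.FC.SN

/-!
# S5764: `StmtBC2'` (pairs of totally isotropic subspaces; unitary and symplectic)   (helper886)

`V = A ⊕ A'`, `A = range (e 0)`, `A' = range (e 1)`.  For `0 ≠ h : A' → A` skew, `x = 1 + h`, every `f` with `f` and
`x f x⁻¹` in the stabilizer fixes `e 0`, `e 1` and `h`.  Four skew maps `h` with trivial common (semilinear) centralizer:
in a basis `a` of `A` and the reversed dual basis `α` of `A'` : `α k ↦ ε a k`, `α (k + 1) ↦ ε a k`, the rank one map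
`α 0 ↦ ε a last` and `α 0 ↦ ε c a 0, α last ↦ ε τ(c) a last`.
-/

set_option autoImplicit false

universe u v

namespace Cfsg.Agent.H886.FC

open Module Cfsg.Agent.H198.FC

section

variable {K : Type u} [Field K] {V : Type v} [AddCommGroup V] [Module K V]

theorem det_one_add_sq [FiniteDimensional K V] {h : R K V} (hh : h * h = 0) : LinearMap.det (1 + h) = 1 := by
  have h1 : IsNilpotent (-h) := ⟨2, by rw [pow_two, neg_mul_neg, hh]⟩
  have h2 := h1.charpoly_eq_X_pow_finrank
  have h3 := LinearMap.eval_charpoly (-h) (1 : K)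
  rw [h2, Polynomial.eval_pow, Polynomial.eval_X, one_pow, map_one, sub_neg_eq_add] at h3
  exact h3.symm

/-- the unit `1 + h` -/
def un1 (h : R K V) (hh : h * h = 0) : (R K V)ˣ where
  val := 1 + h
  inv := 1 - h
  val_inv := by
    have : (1 + h) * (1 - h) = 1 - h * h := by noncomm_ring
    rw [this, hh, sub_zero]
  inv_val := by
    have : (1 - h) * (1 + h) = 1 - h * h := by noncomm_ring
    rw [this, hh, sub_zero]

theorem fin2 (π : Equiv.Perm (Fin 2)) : (π 0 = 0 ∧ π 1 = 1) ∨ (π 0 = 1 ∧ π 1 = 0) := by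
  have h : π 0 ≠ π 1 := fun h => absurd (π.injective h) (by decide)
  revert h
  generalize π 0 = x
  generalize π 1 = y
  fin_cases x <;> fin_cases y <;> simp

/-- `f` and `x f x⁻¹` stabilize `{e 0, e 1}`, `x = 1 + h` -/
theorem fix_of_mem {e : Fin 2 → R K V} (he : CompleteOrthogonalIdempotents e) {f : Equiv.Perm (R K V)}
    (hf : f ∈ RP K V) (hp : ∃ π : Equiv.Perm (Fin 2), ∀ i, f (e i) = e (π i)) {h : R K V} (hh : h * h = 0)
    (h0 : e 0 * h = h) (h1 : h * e 1 = h) (hne : h ≠ 0)
    (hp' : ∃ π : Equiv.Perm (Fin 2), ∀ i, (cj K V (un1 h hh) * f * (cj K V (un1 h hh))⁻¹) (e i) = e (π i)) :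
    f (e 0) = e 0 ∧ f (e 1) = e 1 ∧ f h = h := by
  obtain ⟨π, hπ⟩ := hp
  obtain ⟨π', hπ'⟩ := hp'
  have e00 : e 0 * e 0 = e 0 := he.idem 0
  have e11 : e 1 * e 1 = e 1 := he.idem 1
  have e01 : e 0 * e 1 = 0 := he.ortho (by decide)
  have e10 : e 1 * e 0 = 0 := he.ortho (by decide)
  have he0 : h * e 0 = 0 := by rw [← h1, mul_assoc, e10, mul_zero]
  have h1h : e 1 * h = 0 := by rw [← h0, ← mul_assoc, e10, zero_mul]
  have f1 : f 1 = 1 := by
    have h2 := hf.2 (f⁻¹ 1) 1
    rw [mul_one, show f (f⁻¹ 1) = 1 from f.apply_symm_apply 1, one_mul] at h2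
    exact h2.symm
  have f0 : f 0 = 0 := ra_zero (RP_le_RA hf)
  have fsub : ∀ X Y, f (X - Y) = f X - f Y := by
    intro X Y
    have h2 := hf.1 (X - Y) Y
    rw [sub_add_cancel] at h2
    rw [h2, add_sub_cancel_right]
  set k := f h with hk
  have hk0 : f (e 0) * k = k := by rw [hk, ← hf.2, h0]
  have hk1 : k * f (e 1) = k := by rw [hk, ← hf.2, h1]
  -- the key relation
  have key : ∀ i, (1 + h) * (1 - k) * e (π i) = e (π' i) * ((1 + h) * (1 - k)) := by
    intro i
    have h2 : e (π' i) = (1 + h) * f ((1 - h) * e i * (1 + h)) * (1 - h) := (hπ' i).symm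
    have h3 : f ((1 - h) * e i * (1 + h)) = (1 - k) * e (π i) * (1 + k) := by
      rw [hf.2, hf.2, fsub, hf.1, f1, hπ]
    rw [h2, h3]
    have h4 : (1 - h) * (1 + h) = 1 := (un1 h hh).inv_val
    have hkk : k * k = 0 := by rw [hk, ← hf.2, hh, f0]
    have h5 : (1 + k) * (1 - k) = 1 := (un1 k hkk).val_inv
    calc (1 + h) * (1 - k) * e (π i) = (1 + h) * ((1 - k) * e (π i)) * 1 := by rw [mul_one, mul_assoc]
      _ = (1 + h) * ((1 - k) * e (π i)) * ((1 + k) * (1 - k)) := by rw [h5]
      _ = (1 + h) * ((1 - k) * e (π i) * (1 + k)) * 1 * (1 - k) := by simp only [mul_assoc, one_mul]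
      _ = (1 + h) * ((1 - k) * e (π i) * (1 + k)) * ((1 - h) * (1 + h)) * (1 - k) := by rw [h4]
      _ = _ := by simp only [mul_assoc]
  rcases fin2 π with ⟨hπ0, hπ1⟩ | ⟨hπ0, hπ1⟩
  · -- `f` fixes `e 0` and `e 1`
    have fe0 : f (e 0) = e 0 := by rw [hπ, hπ0]
    have fe1 : f (e 1) = e 1 := by rw [hπ, hπ1]
    rw [fe0] at hk0
    rw [fe1] at hk1
    have hke0 : k * e 0 = 0 := by rw [← hk1, mul_assoc, e10, mul_zero]
    have h1k : e 1 * k = 0 := by rw [← hk0, ← mul_assoc, e10, zero_mul]
    have hhk : h * k = 0 := by rw [← h1, mul_assoc, h1k, mul_zero]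
    have hm : (1 + h) * (1 - k) = 1 + h - k := by
      have : (1 + h) * (1 - k) = 1 + h - k - h * k := by noncomm_ring
      rw [this, hhk, sub_zero]
    refine ⟨fe0, fe1, ?_⟩
    have h2 := key 0
    rw [hπ0, hm, sub_mul, add_mul, one_mul, he0, hke0, add_zero, sub_zero, mul_sub, mul_add, mul_one] at h2
    rcases fin2 π' with ⟨hπ'0, -⟩ | ⟨hπ'0, -⟩
    · rw [hπ'0, h0, hk0] at h2
      have h3 : h - k = 0 := by
        have h4 : e 0 + h - k = e 0 + (h - k) := by abel
        rw [h4] at h2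
        exact (left_eq_add.1 h2)
      exact (sub_eq_zero.1 h3).symm
    · exfalso
      rw [hπ'0, h1h, h1k, add_zero, sub_zero] at h2
      apply hne
      rw [← h0, ← e00]
      nth_rw 2 [h2]
      rw [e01, zero_mul]
  · exfalso
    have fe0 : f (e 0) = e 1 := by rw [hπ, hπ0]
    have fe1 : f (e 1) = e 0 := by rw [hπ, hπ1]
    rw [fe0] at hk0
    rw [fe1] at hk1
    have h0k : e 0 * k = 0 := by rw [← hk0, ← mul_assoc, e01, zero_mul]
    have h2 := key 1
    rw [hπ1] at h2
    have h3 : (1 + h) * (1 - k) * e 0 = e 0 - k - h * k := by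
      have : (1 + h) * (1 - k) * e 0 = e 0 - k * e 0 + h * e 0 - h * (k * e 0) := by noncomm_ring
      rw [this, he0, hk1]
      abel
    rw [h3] at h2
    rcases fin2 π' with ⟨-, hπ'1⟩ | ⟨-, hπ'1⟩
    · -- `π' 1 = 1`
      rw [hπ'1] at h2
      have h4 : e 1 * ((1 + h) * (1 - k)) = e 1 - k := by
        have : e 1 * ((1 + h) * (1 - k)) = e 1 - e 1 * k + e 1 * h * (1 - k) := by noncomm_ring
        rw [this, h1h, hk0, zero_mul, add_zero]
      rw [h4] at h2
      have h5 : e 0 - h * k = e 1 := by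
        have : e 0 - h * k = (e 0 - k - h * k) + k := by abel
        rw [this, h2]
        abel
      have h6 : e 0 * (e 0 - h * k) = 0 := by rw [h5, e01]
      have h7 : e 0 - h * k = 0 := by
        rw [mul_sub, e00, ← mul_assoc, h0] at h6
        exact h6
      apply hne
      rw [← h1, ← h5, h7, mul_zero]
    · rw [hπ'1] at h2
      have h4 : e 0 * ((1 + h) * (1 - k)) = e 0 + h - h * k := by
        have : e 0 * ((1 + h) * (1 - k)) = e 0 - e 0 * k + e 0 * h - e 0 * h * k := by noncomm_ring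
        rw [this, h0, h0k]
        abel
      rw [h4] at h2
      have h5 : h = -k := by
        have : e 0 - k - h * k - (e 0 + h - h * k) = -k - h := by abel
        rw [h2, sub_self] at this
        exact (sub_eq_zero.1 this.symm).symm
      apply hne
      rw [← h0, h5, mul_neg, h0k, neg_zero]

/-- the sign and a skew scalar -/
theorem exists_sign (b : Cl K V) : ∃ s ε : K, s * s = 1 ∧ b.τ s = s ∧ (∀ v w, b.τ (b.B v w) = s * b.B w v) ∧ ε ≠ 0 ∧
    s * b.τ ε = -ε := by
  rcases b.typ with ⟨⟨a, ha⟩, ht⟩ | ⟨hτ, ht⟩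
  · refine ⟨1, b.τ a - a, one_mul 1, map_one _, fun v w => ?_, sub_ne_zero.2 ha, ?_⟩
    · rw [one_mul, ← ht]
    · rw [one_mul, map_sub, b.invol, neg_sub]
  · have hs : ∀ v w, b.B v w = - b.B w v := by
      intro v w
      have h1 := ht (v + w)
      rw [b.add_left, b.add_right, b.add_right, ht, ht, zero_add, add_zero] at h1
      exact eq_neg_of_add_eq_zero_left h1
    refine ⟨-1, 1, by ring, by rw [map_neg, map_one], fun v w => ?_, one_ne_zero, by rw [map_one, mul_one]⟩
    rw [hτ, hs, neg_one_mul]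

theorem B_sum_left (b : Cl K V) {ι : Type*} (s : Finset ι) (φ : ι → V) (w : V) :
    b.B (∑ i ∈ s, φ i) w = ∑ i ∈ s, b.B (φ i) w := by
  classical
  induction s using Finset.induction_on with
  | empty =>
    rw [Finset.sum_empty, Finset.sum_empty]
    exact B_zero_left b w
  | insert i s hi ih => rw [Finset.sum_insert hi, Finset.sum_insert hi, b.add_left, ih]

theorem B_sum_right (b : Cl K V) {ι : Type*} (s : Finset ι) (φ : ι → V) (v : V) :
    b.B v (∑ i ∈ s, φ i) = ∑ i ∈ s, b.B v (φ i) := by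
  classical
  induction s using Finset.induction_on with
  | empty => rw [Finset.sum_empty, Finset.sum_empty]; exact B_zero_right b v
  | insert i s hi ih => rw [Finset.sum_insert hi, Finset.sum_insert hi, b.add_right, ih]

/-- the skew maps -/
def skm (b : Cl K V) (ε : K) {m : ℕ} (a : Fin m → V) (M : Fin m → Fin m → K) : R K V where
  toFun v := ε • ∑ i, ∑ j, (M i j * b.B v (a j)) • a i
  map_add' v w := by
    rw [← smul_add]
    congr 1
    rw [← Finset.sum_add_distrib]
    refine Finset.sum_congr rfl fun i _ => ?_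
    rw [← Finset.sum_add_distrib]
    refine Finset.sum_congr rfl fun j _ => ?_
    rw [b.add_left, mul_add, add_smul]
  map_smul' c v := by
    rw [RingHom.id_apply, smul_comm c ε]
    congr 1
    rw [Finset.smul_sum]
    refine Finset.sum_congr rfl fun i _ => ?_
    rw [Finset.smul_sum]
    refine Finset.sum_congr rfl fun j _ => ?_
    rw [b.smul_left, smul_smul, mul_left_comm]

theorem skm_apply (b : Cl K V) (ε : K) {m : ℕ} (a : Fin m → V) (M : Fin m → Fin m → K) (v : V) :
    skm b ε a M v = ε • ∑ i, ∑ j, (M i j * b.B v (a j)) • a i := rfl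

theorem skm_adj (b : Cl K V) {s ε : K} (hs : ∀ v w, b.τ (b.B v w) = s * b.B w v) (hε : s * b.τ ε = -ε) {m : ℕ}
    (a : Fin m → V) {M : Fin m → Fin m → K} (hM : ∀ i j, b.τ (M j i) = M i j) (v w : V) :
    b.B (skm b ε a M v) w = - b.B v (skm b ε a M w) := by
  rw [skm_apply, skm_apply, b.smul_left, b.smul_right, B_sum_left, B_sum_right, Finset.mul_sum, Finset.mul_sum,
    ← Finset.sum_neg_distrib]
  simp only [B_sum_left, B_sum_right, b.smul_left, b.smul_right, Finset.mul_sum, ← Finset.sum_neg_distrib]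
  rw [Finset.sum_comm]
  refine Finset.sum_congr rfl fun i _ => Finset.sum_congr rfl fun j _ => ?_
  rw [map_mul, hs, hM]
  have : ε = - (s * b.τ ε) := by rw [hε, neg_neg]
  conv_lhs => rw [this]
  ring

/-- `a` a basis of `A`, `α` the reversed dual basis of `A'` -/
structure Pair (b : Cl K V) (e : Fin 2 → R K V) {m : ℕ} (a α : Fin m → V) : Prop where
  sum : ∀ v, e 0 v + e 1 v = v
  idem : ∀ v, e 1 (e 1 v) = e 1 v
  adj : ∀ v w, b.B (e 1 v) w = b.B v (e 0 w)
  ti : ∀ v w, e 1 v = v → b.B v (e 1 w) = 0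
  ea : ∀ i, e 0 (a i) = a i
  eα : ∀ i, e 1 (α i) = α i
  li : LinearIndependent K a
  span : ∀ v, e 0 v ∈ Submodule.span K (Set.range a)
  dual : ∀ i j, b.B (α i) (a j) = if j = Fin.rev i then 1 else 0

theorem Pair.inj {b : Cl K V} {e : Fin 2 → R K V} {m : ℕ} {a α : Fin m → V} (h : Pair b e a α) {v : V}
    (hv : e 1 v = v) (h0 : ∀ j, b.B v (a j) = 0) : v = 0 := by
  apply b.nondeg
  intro w
  rw [← h.sum w, b.add_right, h.ti v w hv, add_zero]
  have h1 := h.span w
  refine Submodule.span_induction (p := fun x _ => b.B v x = 0) ?_ ?_ ?_ ?_ h1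
  · rintro _ ⟨j, rfl⟩
    exact h0 j
  · exact B_zero_right b v
  · intro x y _ _ hx hy
    rw [b.add_right, hx, hy, add_zero]
  · intro c x _ hx
    rw [b.smul_right, hx, mul_zero]

theorem exists_pair [Finite K] [FiniteDimensional K V] (b : Cl K V) {e : Fin 2 → R K V}
    (he : CompleteOrthogonalIdempotents e) (hadj : b.Adj (e 0) (e 1)) :
    ∃ (m : ℕ) (a α : Fin m → V), Pair b e a α ∧ finrank K V ≤ 2 * m := by
  classical
  have e00 : e 0 * e 0 = e 0 := he.idem 0
  have e11 : e 1 * e 1 = e 1 := he.idem 1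
  have e01 : e 0 * e 1 = 0 := he.ortho (by decide)
  have e10 : e 1 * e 0 = 0 := he.ortho (by decide)
  have hsum : e 0 + e 1 = 1 := by
    have := he.complete
    rwa [Fin.sum_univ_two] at this
  have hadj' : b.Adj (e 1) (e 0) := adj_symm b hadj
  have hti : ∀ v w, e 1 v = v → b.B v (e 1 w) = 0 := by
    intro v w hv
    rw [← hadj v w, ← hv, ← Module.End.mul_apply, e01]
    exact B_zero_left b w
  have hsum' : ∀ v, e 0 v + e 1 v = v := fun v => LinearMap.congr_fun hsum v
  obtain ⟨s, ε, hss, hs, hst, -, -⟩ := exists_sign b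
  let bas := finBasis K (LinearMap.range (e 0))
  let m := finrank K (LinearMap.range (e 0))
  let a : Fin m → V := fun i => (bas i : V)
  have ha : ∀ i, a i = (bas i : V) := fun i => rfl
  have hea : ∀ i, e 0 (a i) = a i := by
    intro i
    obtain ⟨u, hu⟩ := (bas i).2
    rw [ha, ← hu, ← Module.End.mul_apply, e00]
  have hli : LinearIndependent K a := bas.linearIndependent.map' (LinearMap.range (e 0)).subtype
    (Submodule.ker_subtype _)
  have hspan : Submodule.span K (Set.range a) = LinearMap.range (e 0) := by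
    have h1 : Set.range a = (LinearMap.range (e 0)).subtype '' Set.range bas := by
      rw [← Set.range_comp]
      rfl
    rw [h1, Submodule.span_image, bas.span_eq, Submodule.map_top, Submodule.range_subtype]
  have hα : ∀ i, ∃ α : V, e 1 α = α ∧ ∀ j, b.B α (a j) = if j = Fin.rev i then 1 else 0 := by
    intro i
    obtain ⟨w, hw⟩ := fn_surj b (s • ((bas.coord (Fin.rev i)) ∘ₗ (e 0).rangeRestrict))
    have hw' : ∀ v, b.B v w = s * bas.coord (Fin.rev i) ((e 0).rangeRestrict v) := fun v => LinearMap.congr_fun hw v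
    refine ⟨e 1 w, by rw [← Module.End.mul_apply, e11], fun j => ?_⟩
    rw [hadj' w, hea]
    have h1 : (e 0).rangeRestrict (a j) = bas j := Subtype.ext (hea j)
    have h2 : b.B (a j) w = s * if j = Fin.rev i then 1 else 0 := by
      rw [hw', h1, Basis.coord_apply, Basis.repr_self, Finsupp.single_apply]
    have h3 := hst (a j) w
    rw [h2, map_mul, hs] at h3
    have h4 : b.τ (if j = Fin.rev i then (1 : K) else 0) = if j = Fin.rev i then 1 else 0 := by
      split_ifs
      · exact map_one _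
      · exact map_zero _
    rw [h4] at h3
    have h5 := congrArg (fun x => s * x) h3
    simp only [← mul_assoc, hss, one_mul] at h5
    exact h5.symm
  choose α hα1 hα2 using hα
  have hP : Pair b e a α := ⟨hsum', fun v => LinearMap.congr_fun e11 v, hadj', hti, hea, hα1, hli, fun v => by rw [hspan]; exact ⟨v, rfl⟩, hα2⟩
  refine ⟨m, a, α, hP, ?_⟩
  have h1 : finrank K V = finrank K (LinearMap.range (e 0)) + finrank K (LinearMap.range (e 1)) := by
    rw [← rank_add e00 e11 e01 e10, hsum, LinearMap.range_eq_top.2 (fun v => ⟨v, rfl⟩), finrank_top]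
  have h2 : finrank K (LinearMap.range (e 1)) ≤ m := by
    let Φ : LinearMap.range (e 1) →ₗ[K] (Fin m → K) :=
      { toFun := fun v j => b.B v (a j)
        map_add' := fun v w => funext fun j => b.add_left _ _ _
        map_smul' := fun c v => funext fun j => b.smul_left _ _ _ }
    have hinj : Function.Injective Φ := by
      rw [← LinearMap.ker_eq_bot, LinearMap.ker_eq_bot']
      rintro ⟨v, hv⟩ hv0
      apply Subtype.ext
      apply hP.inj
      · obtain ⟨u, rfl⟩ := hv
        rw [← Module.End.mul_apply, e11]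
      · intro j
        exact congrFun hv0 j
    have h3 := LinearMap.finrank_le_finrank_of_injective hinj
    rwa [finrank_fin_fun] at h3
  rw [h1]
  change m + _ ≤ 2 * m
  omega

/-! ### the four matrices -/

section mat

variable (K) (p : ℕ)

/-- `α k ↦ a k` -/
def M1 (i j : Fin (p + 2)) : K := if j = Fin.rev i then 1 else 0
/-- `α 0 ↦ a last` -/
def M2 (i j : Fin (p + 2)) : K := if i = Fin.last _ ∧ j = Fin.last _ then 1 else 0
/-- `α (k + 1) ↦ a k` -/
def M3 (i j : Fin (p + 2)) : K := if i.val + j.val = p then 1 else 0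

variable {K}

/-- `α 0 ↦ c a 0`, `α last ↦ τ(c) a last` -/
def M4 (c c' : K) (i j : Fin (p + 2)) : K :=
  if i = 0 ∧ j = Fin.last _ then c else if i = Fin.last _ ∧ j = 0 then c' else 0

end mat

theorem m1_sym (b : Cl K V) {p : ℕ} (i j : Fin (p + 2)) : b.τ (M1 K p j i) = M1 K p i j := by
  have h : i = Fin.rev j ↔ j = Fin.rev i := by
    constructor
    · rintro rfl; rw [Fin.rev_rev]
    · rintro rfl; rw [Fin.rev_rev]
  unfold M1
  by_cases hij : j = Fin.rev i
  · rw [if_pos hij, if_pos (h.2 hij), map_one]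
  · rw [if_neg hij, if_neg (fun h' => hij (h.1 h')), map_zero]

theorem m2_sym (b : Cl K V) {p : ℕ} (i j : Fin (p + 2)) : b.τ (M2 K p j i) = M2 K p i j := by
  unfold M2
  by_cases hij : i = Fin.last _ ∧ j = Fin.last _
  · rw [if_pos hij, if_pos hij.symm, map_one]
  · rw [if_neg hij, if_neg (fun h' => hij h'.symm), map_zero]

theorem m3_sym (b : Cl K V) {p : ℕ} (i j : Fin (p + 2)) : b.τ (M3 K p j i) = M3 K p i j := by
  unfold M3
  rw [add_comm]
  split_ifs
  · exact map_one _
  · exact map_zero _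

theorem m4_sym (b : Cl K V) {p : ℕ} (c : K) (i j : Fin (p + 2)) : b.τ (M4 p c (b.τ c) j i) = M4 p c (b.τ c) i j := by
  have h0 : (0 : Fin (p + 2)) ≠ Fin.last _ := by
    rw [Ne, Fin.ext_iff]
    simp
  unfold M4
  by_cases h1 : i = 0 ∧ j = Fin.last _
  · have h2 : ¬ (j = 0 ∧ i = Fin.last _) := fun h => h0 (h.1.symm.trans h1.2)
    rw [if_pos h1, if_neg h2, if_pos h1.symm, b.invol]
  · by_cases h2 : i = Fin.last _ ∧ j = 0
    · rw [if_neg h1, if_pos h2, if_pos h2.symm]
    · have h3 : ¬ (j = 0 ∧ i = Fin.last _) := fun h => h2 h.symm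
      have h4 : ¬ (j = Fin.last _ ∧ i = 0) := fun h => h1 h.symm
      rw [if_neg h1, if_neg h2, if_neg h3, if_neg h4, map_zero]

variable {b : Cl K V} {e : Fin 2 → R K V} {p : ℕ} {a α : Fin (p + 2) → V}

theorem skm_α (hP : Pair b e a α) (ε : K) (M : Fin (p + 2) → Fin (p + 2) → K) (k : Fin (p + 2)) :
    skm b ε a M (α k) = ε • ∑ i, M i (Fin.rev k) • a i := by
  rw [skm_apply]
  congr 1
  refine Finset.sum_congr rfl fun i _ => ?_
  rw [Finset.sum_eq_single (Fin.rev k)]
  · rw [hP.dual, if_pos rfl, mul_one]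
  · intro j _ hj
    rw [hP.dual, if_neg hj, mul_zero, zero_smul]
  · intro h
    exact absurd (Finset.mem_univ _) h

theorem skm1 (hP : Pair b e a α) (ε : K) (k : Fin (p + 2)) : skm b ε a (M1 K p) (α k) = ε • a k := by
  rw [skm_α hP, Finset.sum_eq_single k]
  · unfold M1; rw [if_pos rfl, one_smul]
  · intro i _ hi
    unfold M1
    rw [if_neg (fun h => hi (Fin.rev_injective h).symm), zero_smul]
  · intro h
    exact absurd (Finset.mem_univ _) h

theorem skm2 (b : Cl K V) (ε : K) (a : Fin (p + 2) → V) (v : V) :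
    skm b ε a (M2 K p) v = (ε * b.B v (a (Fin.last _))) • a (Fin.last _) := by
  rw [skm_apply, mul_smul, Finset.sum_eq_single (Fin.last _)]
  · congr 1
    rw [Finset.sum_eq_single (Fin.last _)]
    · unfold M2; rw [if_pos ⟨rfl, rfl⟩, one_mul]
    · intro j _ hj
      unfold M2
      rw [if_neg (fun h => hj h.2), zero_mul, zero_smul]
    · intro h
      exact absurd (Finset.mem_univ _) h
  · intro i _ hi
    apply Finset.sum_eq_zero
    intro j _
    unfold M2
    rw [if_neg (fun h => hi h.1), zero_mul, zero_smul]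
  · intro h
    exact absurd (Finset.mem_univ _) h

theorem skm3 (hP : Pair b e a α) (ε : K) (k : Fin (p + 1)) :
    skm b ε a (M3 K p) (α k.succ) = ε • a k.castSucc := by
  rw [skm_α hP, Finset.sum_eq_single k.castSucc]
  · unfold M3
    rw [if_pos, one_smul]
    rw [Fin.val_rev, Fin.val_castSucc, Fin.val_succ]
    omega
  · intro i _ hi
    unfold M3
    rw [if_neg, zero_smul]
    intro h
    apply hi
    rw [Fin.ext_iff, Fin.val_castSucc]
    rw [Fin.val_rev, Fin.val_succ] at h
    omega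
  · intro h
    exact absurd (Finset.mem_univ _) h

theorem skm4 (hP : Pair b e a α) (ε c c' : K) : skm b ε a (M4 p c c') (α 0) = (ε * c) • a 0 := by
  have h0 : (0 : Fin (p + 2)) ≠ Fin.last _ := by
    rw [Ne, Fin.ext_iff]
    simp
  rw [skm_α hP, mul_smul, Finset.sum_eq_single 0]
  · unfold M4
    rw [Fin.rev_zero, if_pos ⟨rfl, rfl⟩]
  · intro i _ hi
    unfold M4
    rw [if_neg (fun h => hi h.1), if_neg, zero_smul]
    rintro ⟨-, h⟩
    rw [Fin.rev_zero] at h
    exact h0 h.symm
  · intro h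
    exact absurd (Finset.mem_univ _) h

/-- **rigidity** -/
theorem rigid (hP : Pair b e a α) {ε c : K} (hε : ε ≠ 0) (hc : c ≠ 0)
    (hcg : ∀ σ : K ≃+* K, σ c = c → ∀ x, σ x = x) {g : V → V} (hg : Function.Injective g)
    (hadd : ∀ v w, g (v + w) = g v + g w) {σ : K ≃+* K} (hsm : ∀ (x : K) (v : V), g (x • v) = σ x • g v)
    (g1 : ∀ v, e 1 (g v) = g (e 1 v))
    (k1 : ∀ v, skm b ε a (M1 K p) (g v) = g (skm b ε a (M1 K p) v))
    (k2 : ∀ v, skm b ε a (M2 K p) (g v) = g (skm b ε a (M2 K p) v))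
    (k3 : ∀ v, skm b ε a (M3 K p) (g v) = g (skm b ε a (M3 K p) v))
    (k4 : ∀ v, skm b ε a (M4 p c (b.τ c)) (g v) = g (skm b ε a (M4 p c (b.τ c)) v)) :
    ∃ r : K, r ≠ 0 ∧ ∀ v, g v = r • v := by
  classical
  have hg0 : g 0 = 0 := by
    have := hsm 0 0
    rwa [zero_smul, map_zero, zero_smul] at this
  have ha0 : ∀ k, a k ≠ 0 := fun k => hP.li.ne_zero k
  have hσε : σ ε ≠ 0 := fun h => hε (σ.injective (by rw [h, map_zero]))
  -- `g` fixes the line of `a last`
  obtain ⟨r, hr⟩ : ∃ r : K, g (a (Fin.last _)) = r • a (Fin.last _) := by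
    have h1 := k2 (α 0)
    rw [skm2, skm2, hP.dual, if_pos (by rw [Fin.rev_zero]), mul_one, hsm] at h1
    refine ⟨(σ ε)⁻¹ * (ε * b.B (g (α 0)) (a (Fin.last _))), ?_⟩
    rw [mul_smul, h1, smul_smul, inv_mul_cancel₀ hσε, one_smul]
  have hr0 : r ≠ 0 := by
    rintro rfl
    rw [zero_smul] at hr
    exact ha0 _ (hg (by rw [hr, hg0]))
  -- from `a k` to `α k`
  have hstep : ∀ k, g (a k) = r • a k → g (α k) = (σ ε * ε⁻¹ * r) • α k := by
    intro k hk
    rw [← sub_eq_zero]
    apply hP.inj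
    · rw [map_sub, map_smul, hP.eα, g1, hP.eα]
    · -- it is killed by `skm M1`
      have h1 : skm b ε a (M1 K p) (g (α k) - (σ ε * ε⁻¹ * r) • α k) = 0 := by
        rw [map_sub, map_smul, k1, skm1 hP, hsm, hk, smul_smul, smul_smul, sub_eq_zero]
        congr 1
        field_simp
      rw [skm_apply, smul_eq_zero] at h1
      have h2 := h1.resolve_left hε
      have h3 : ∀ v, ∑ i, ∑ j, (M1 K p i j * b.B v (a j)) • a i = ∑ i, b.B v (a (Fin.rev i)) • a i := by
        intro v
        refine Finset.sum_congr rfl fun i _ => ?_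
        rw [Finset.sum_eq_single (Fin.rev i)]
        · unfold M1; rw [if_pos rfl, one_mul]
        · intro j _ hj
          unfold M1
          rw [if_neg hj, zero_mul, zero_smul]
        · intro h
          exact absurd (Finset.mem_univ _) h
      rw [h3] at h2
      intro j
      have h4 := Fintype.linearIndependent_iff.1 hP.li _ h2 (Fin.rev j)
      rwa [Fin.rev_rev] at h4
  have hga : ∀ k, g (a k) = r • a k := by
    intro k
    induction k using Fin.reverseInduction with
    | last => exact hr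
    | cast i ih =>
      have h1 := hstep _ ih
      have h2 := k3 (α i.succ)
      rw [h1, map_smul, skm3 hP, hsm, smul_smul] at h2
      have h3 : σ ε * ε⁻¹ * r * ε = σ ε * r := by field_simp
      rw [h3, mul_smul] at h2
      exact (smul_right_injective V hσε h2).symm
  have hgα : ∀ k, g (α k) = (σ ε * ε⁻¹ * r) • α k := fun k => hstep k (hga k)
  have hσ : ∀ x, σ x = x := by
    apply hcg
    have h1 := k4 (α 0)
    rw [hgα, map_smul, skm4 hP, hsm, hga, smul_smul, smul_smul] at h1
    have h2 := smul_left_injective K (ha0 0) h1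
    have h3 : σ ε * ε⁻¹ * r * (ε * c) = (σ ε * r) * c := by field_simp
    have h4 : σ (ε * c) * r = (σ ε * r) * σ c := by rw [map_mul]; ring
    simp only [h3, h4] at h2
    exact (mul_left_cancel₀ (mul_ne_zero hσε hr0) h2).symm
  refine ⟨r, hr0, ?_⟩
  have hα' : ∀ k, g (α k) = r • α k := by
    intro k
    rw [hgα, hσ, mul_inv_cancel₀ hε, one_mul]
  let T : Submodule K V :=
    { carrier := {v | g v = r • v}
      zero_mem' := by
        show g 0 = r • (0 : V)
        rw [hg0, smul_zero]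
      add_mem' := by
        intro v w hv hw
        show g (v + w) = r • (v + w)
        rw [hadd, hv, hw, smul_add]
      smul_mem' := by
        intro x v hv
        show g (x • v) = r • x • v
        rw [hsm, hσ, hv, smul_comm] }
  intro v
  have h1 : e 0 v ∈ T := by
    have h2 : Submodule.span K (Set.range a) ≤ T := by
      refine Submodule.span_le.2 ?_
      rintro _ ⟨k, rfl⟩
      exact hga k
    exact h2 (hP.span v)
  have h2 : e 1 v ∈ T := by
    have h3 : e 1 v = ∑ k, b.B (e 1 v) (a (Fin.rev k)) • α k := by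
      rw [← sub_eq_zero]
      apply hP.inj
      · rw [map_sub, hP.idem, map_sum]
        congr 1
        refine Finset.sum_congr rfl fun k _ => ?_
        rw [map_smul, hP.eα]
      · intro j
        have h4 : ∀ x y : V, b.B (x - y) (a j) = b.B x (a j) - b.B y (a j) := by
          intro x y
          rw [eq_sub_iff_add_eq, ← b.add_left, sub_add_cancel]
        rw [h4, B_sum_left, sub_eq_zero, Finset.sum_eq_single (Fin.rev j)]
        · rw [b.smul_left, hP.dual, Fin.rev_rev, if_pos rfl, mul_one]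
        · intro k _ hk
          rw [b.smul_left, hP.dual, if_neg, mul_zero]
          rintro rfl
          exact hk (Fin.rev_rev k).symm
        · intro h
          exact absurd (Finset.mem_univ _) h
    rw [h3]
    exact Submodule.sum_mem _ fun k _ => Submodule.smul_mem _ _ (hα' k)
  have h3 := T.add_mem h1 h2
  rw [hP.sum] at h3
  exact h3

theorem skm_e0 {m : ℕ} {a α : Fin m → V} (hP : Pair b e a α) (ε : K) (M : Fin m → Fin m → K) :
    e 0 * skm b ε a M = skm b ε a M := by
  ext v
  rw [Module.End.mul_apply, skm_apply, map_smul, map_sum]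
  congr 1
  refine Finset.sum_congr rfl fun i _ => ?_
  rw [map_sum]
  refine Finset.sum_congr rfl fun j _ => ?_
  rw [map_smul, hP.ea]

theorem skm_e1 {m : ℕ} {a α : Fin m → V} (hP : Pair b e a α) (ε : K) (M : Fin m → Fin m → K) :
    skm b ε a M * e 1 = skm b ε a M := by
  ext v
  rw [Module.End.mul_apply, skm_apply, skm_apply]
  congr 1
  refine Finset.sum_congr rfl fun i _ => ?_
  refine Finset.sum_congr rfl fun j _ => ?_
  rw [hP.adj, hP.ea]

theorem isom_one_add (b : Cl K V) {h : R K V} (hh : h * h = 0) (hs : ∀ v w, b.B (h v) w = - b.B v (h w)) :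
    b.Isom (1 + h) := by
  intro v w
  have h1 : b.B (h v) (h w) = 0 := by
    rw [hs, ← Module.End.mul_apply, hh, LinearMap.zero_apply, B_zero_right, neg_zero]
  rw [LinearMap.add_apply, LinearMap.add_apply, Module.End.one_apply, Module.End.one_apply, b.add_left, b.add_right,
    b.add_right, h1, add_zero, hs, add_assoc, add_neg_cancel, add_zero]

end

/-- **B-C2'** -/
theorem stmtBC2' : StmtBC2'.{u, v} := by
  classical
  intro K _ _ V _ _ _ b hbig S hS _ e he hadj hp
  have hn3 : 3 ≤ finrank K V := by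
    rcases hbig with ⟨_, h, _⟩ | ⟨_, h, _⟩ <;> omega
  have : Nontrivial V := Module.nontrivial_of_finrank_pos (R := K) (by omega)
  obtain ⟨m, a, α, hP, hm⟩ := exists_pair b he hadj
  obtain ⟨p, rfl⟩ : ∃ p, m = p + 2 := ⟨m - 2, by omega⟩
  obtain ⟨s, ε, -, -, hs, hε, hsε⟩ := exists_sign b
  obtain ⟨c, hc⟩ := IsCyclic.exists_generator (α := Kˣ)
  have hcg : ∀ σ : K ≃+* K, σ (c : K) = c → ∀ x, σ x = x := by
    intro σ hσ x
    by_cases hx : x = 0
    · rw [hx, map_zero]
    · obtain ⟨k, hk⟩ := hc (Units.mk0 x hx)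
      have h1 : ((c ^ k : Kˣ) : K) = x := by
        have : (c ^ k : Kˣ) = Units.mk0 x hx := hk
        rw [this]; rfl
      rw [← h1, Units.val_zpow_eq_zpow_val, map_zpow₀, hσ]
  have e10 : e 1 * e 0 = 0 := he.ortho (by decide)
  have hsq : ∀ M : Fin (p + 2) → Fin (p + 2) → K, skm b ε a M * skm b ε a M = 0 := by
    intro M
    have h1 : skm b ε a M * skm b ε a M = (skm b ε a M * e 1) * (e 0 * skm b ε a M) := by
      rw [skm_e0 hP, skm_e1 hP]
    rw [h1, mul_assoc, ← mul_assoc (e 1), e10, zero_mul, mul_zero]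
  have ha0 : ∀ k, a k ≠ 0 := fun k => hP.li.ne_zero k
  let M : Fin 4 → Fin (p + 2) → Fin (p + 2) → K := ![M1 K p, M2 K p, M3 K p, M4 p (c : K) (b.τ c)]
  have hsym : ∀ t i j, b.τ (M t j i) = M t i j := by
    intro t
    fin_cases t
    · exact m1_sym b
    · exact m2_sym b
    · exact m3_sym b
    · exact m4_sym b (c : K)
  have hne : ∀ t, skm b ε a (M t) ≠ 0 := by
    intro t h0
    fin_cases t
    · have h1 : skm b ε a (M1 K p) (α 0) = 0 := LinearMap.congr_fun h0 _
      rw [skm1 hP, smul_eq_zero] at h1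
      exact h1.elim hε (ha0 _)
    · have h1 : skm b ε a (M2 K p) (α 0) = 0 := LinearMap.congr_fun h0 _
      rw [skm2, hP.dual, if_pos (by rw [Fin.rev_zero]), mul_one, smul_eq_zero] at h1
      exact h1.elim hε (ha0 _)
    · have h1 : skm b ε a (M3 K p) (α (Fin.succ 0)) = 0 := LinearMap.congr_fun h0 _
      rw [skm3 hP, smul_eq_zero] at h1
      exact h1.elim hε (ha0 _)
    · have h1 : skm b ε a (M4 p (c : K) (b.τ c)) (α 0) = 0 := LinearMap.congr_fun h0 _
      rw [skm4 hP, smul_eq_zero] at h1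
      exact h1.elim (mul_ne_zero hε c.ne_zero) (ha0 _)
  refine ⟨fun t => un1 (skm b ε a (M t)) (hsq _), fun t => det_one_add_sq (hsq _),
    fun t => isom_one_add b (hsq _) (skm_adj b hs hsε a (hsym t)), ?_⟩
  intro f hf hfx
  have hfix : ∀ t, f (e 0) = e 0 ∧ f (e 1) = e 1 ∧ f (skm b ε a (M t)) = skm b ε a (M t) := fun t =>
    fix_of_mem he (hS hf).1 (hp f hf) (hsq _) (skm_e0 hP ε _) (skm_e1 hP ε _) (hne t) (hp _ (hfx t))
  obtain ⟨g, ⟨hadd, σ, hsm⟩, hg⟩ := Cfsg.Agent.H277.FC.stmtSN K V (by omega) f (hS hf).1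
  have hk : ∀ t v, skm b ε a (M t) (g v) = g (skm b ε a (M t) v) := by
    intro t v
    have h1 := hg (skm b ε a (M t)) v
    rwa [(hfix t).2.2] at h1
  have hg1 : ∀ v, e 1 (g v) = g (e 1 v) := by
    intro v
    have h1 := hg (e 1) v
    rwa [(hfix 0).2.1] at h1
  obtain ⟨r, hr, hgr⟩ := rigid hP hε c.ne_zero hcg g.injective hadd hsm hg1 (hk 0) (hk 1) (hk 2) (hk 3)
  apply Equiv.ext
  intro X
  apply LinearMap.ext
  intro v
  have h1 := hg X v
  rw [hgr, hgr, map_smul] at h1
  exact smul_right_injective V hr h1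

end Cfsg.Agent.H886.FC
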