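import Cfsg.Agent.H886.FC.Base

/-!
# S5764, classification: the lifts do not commute

`K[A^]` is a central simple algebra, `K[A^] ≅ M_u(K)`, `u² = |A|`, `V = K^u ⊗ K^y`.
-/

set_option autoImplicit false
set_option linter.unusedSectionVars false

universe u v

namespace Cfsg.Agent.H886.FC

open Module Cfsg.Agent.H198.FC

section

variable {K : Type u} [Field K] {V : Type v} [AddCommGroup V] [Module K V]

/-! ### matrix algebras acting on `V` -/

/-- a matrix algebra acting on `V` -/
theorem exists_tensor [FiniteDimensional K V] (m : ℕ) (i0 : Fin m)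
    (ψ : Matrix (Fin m) (Fin m) K →ₐ[K] R K V) :
    ∃ (y : ℕ) (Φ : Matrix (Fin m × Fin y) (Fin m × Fin y) K ≃ₐ[K] R K V),
      (∀ B : Matrix (Fin m) (Fin m) K,
        Φ (Matrix.kroneckerMap (· * ·) B (1 : Matrix (Fin y) (Fin y) K)) = ψ B) ∧
      finrank K V = m * y := by
  classical
  let E : Fin m → Fin m → R K V := fun i j => ψ (Matrix.single i j 1)
  have hE : ∀ i j, E i j = ψ (Matrix.single i j 1) := fun i j => rfl
  have hEE : ∀ i j k, E i j * E j k = E i k := by
    intro i j k
    rw [hE, hE, hE, ← map_mul, Matrix.single_mul_single_same, mul_one]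
  have hE0 : ∀ i j k l, j ≠ k → E i j * E k l = 0 := by
    intro i j k l h
    rw [hE, hE, ← map_mul, Matrix.single_mul_single_of_ne _ _ _ _ h, map_zero]
  have hsum : ∑ i, E i i = 1 := by
    rw [← map_one ψ]
    have : (1 : Matrix (Fin m) (Fin m) K) = ∑ i, Matrix.single i i 1 :=
      (Matrix.sum_single_one).symm
    rw [this, map_sum]
  let W := LinearMap.range (E i0 i0)
  let y := finrank K W
  let w : Basis (Fin y) K W := finBasis K W
  have hW : ∀ i v, E i0 i v ∈ W := fun i v => ⟨E i0 i v, by
    rw [← Module.End.mul_apply, hEE]⟩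
  have hWfix : ∀ x : W, E i0 i0 (x : V) = x := by
    rintro ⟨_, v, rfl⟩
    show E i0 i0 (E i0 i0 v) = E i0 i0 v
    rw [← Module.End.mul_apply, hEE]
  let pr : Fin m → V →ₗ[K] W := fun i => LinearMap.codRestrict W (E i0 i) (hW i)
  have hpr : ∀ i v, (pr i v : V) = E i0 i v := fun i v => rfl
  -- the linear equivalence
  let e : V ≃ₗ[K] (Fin m × Fin y → K) :=
    { toFun := fun v ij => w.repr (pr ij.1 v) ij.2
      invFun := fun c => ∑ i, E i i0 (∑ j, c (i, j) • (w j : W) : W)
      map_add' := fun v v' => by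
        funext ij
        simp only [map_add, Finsupp.add_apply, Pi.add_apply]
      map_smul' := fun a v => by
        funext ij
        simp only [map_smul, Finsupp.smul_apply, Pi.smul_apply, RingHom.id_apply]
      left_inv := fun v => by
        show ∑ i, E i i0 (∑ j, (w.repr (pr i v) j) • (w j : W) : W) = v
        have h1 : ∀ i, (∑ j, (w.repr (pr i v) j) • (w j : W) : W) = pr i v := fun i =>
          w.sum_repr _
        simp only [h1, hpr]
        have h2 : ∀ i, E i i0 (E i0 i v) = E i i v := fun i => by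
          rw [← Module.End.mul_apply, hEE]
        simp only [h2]
        have := LinearMap.congr_fun hsum v
        rw [LinearMap.sum_apply] at this
        exact this
      right_inv := fun c => by
        funext ij
        obtain ⟨i, j⟩ := ij
        show w.repr (pr i (∑ i', E i' i0 (∑ j, c (i', j) • (w j : W) : W))) j = c (i, j)
        have h1 : pr i (∑ i', E i' i0 (∑ j, c (i', j) • (w j : W) : W)) =
            (∑ j, c (i, j) • (w j : W) : W) := by
          apply Subtype.ext
          rw [hpr, map_sum, Finset.sum_eq_single i]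
          · rw [← Module.End.mul_apply, hEE, hWfix]
          · intro i' _ hi'
            rw [← Module.End.mul_apply, hE0 _ _ _ _ hi'.symm]
            rfl
          · intro h
            exact absurd (Finset.mem_univ i) h
        rw [h1, map_sum, Finsupp.finsetSum_apply]
        simp [Finsupp.single_apply] }
  have he : ∀ v i j, e v (i, j) = w.repr (pr i v) j := fun v i j => rfl
  let Φ : Matrix (Fin m × Fin y) (Fin m × Fin y) K ≃ₐ[K] R K V :=
    Matrix.toLinAlgEquiv'.trans (e.symm.conjAlgEquiv K)
  refine ⟨y, Φ, ?_, ?_⟩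
  · intro B
    apply LinearMap.ext
    intro v
    show e.symm (Matrix.toLin' (Matrix.kroneckerMap (· * ·) B (1 : Matrix (Fin y) (Fin y) K)) (e v)) =
      ψ B v
    rw [LinearEquiv.symm_apply_eq]
    funext ij
    obtain ⟨i, j⟩ := ij
    rw [he, Matrix.toLin'_apply, Matrix.mulVec, dotProduct, Fintype.sum_prod_type]
    have h1 : ∀ i', ∑ j', Matrix.kroneckerMap (· * ·) B (1 : Matrix (Fin y) (Fin y) K) (i, j)
        (i', j') * e v (i', j') = B i i' * e v (i', j) := by
      intro i'
      rw [Finset.sum_eq_single j]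
      · rw [Matrix.kroneckerMap_apply, Matrix.one_apply_eq, mul_one]
      · intro j' _ hj'
        rw [Matrix.kroneckerMap_apply, Matrix.one_apply_ne hj'.symm, mul_zero, zero_mul]
      · intro h
        exact absurd (Finset.mem_univ j) h
    rw [Finset.sum_congr rfl fun i' _ => h1 i']
    have h2 : E i0 i * ψ B = ∑ i', B i i' • E i0 i' := by
      have h3 : Matrix.single i0 i (1 : K) * B = ∑ i', B i i' • Matrix.single i0 i' (1 : K) := by
        ext a b
        rw [Matrix.sum_apply]
        by_cases ha : a = i0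
        · subst ha
          rw [Matrix.single_mul_apply_same]
          simp [Matrix.single_apply]
        · rw [Matrix.single_mul_apply_of_ne _ _ _ _ _ ha]
          symm
          apply Finset.sum_eq_zero
          intro i' _
          simp [Ne.symm ha]
      rw [hE, ← map_mul, h3, map_sum]
      exact Finset.sum_congr rfl fun i' _ => by rw [map_smul]
    have h4 : pr i (ψ B v) = ∑ i', B i i' • pr i' v := by
      apply Subtype.ext
      rw [hpr, ← Module.End.mul_apply, h2, LinearMap.sum_apply, Submodule.coe_sum]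
      exact Finset.sum_congr rfl fun i' _ => rfl
    rw [h4, map_sum, Finsupp.finsetSum_apply]
    exact (Finset.sum_congr rfl fun i' _ => by rw [map_smul]; rfl)
  · rw [LinearEquiv.finrank_eq e, Module.finrank_fintype_fun_eq_card, Fintype.card_prod,
      Fintype.card_fin, Fintype.card_fin]

/-! ### the algebra `K[A^]` -/

section NC

variable [Nontrivial V] {A : Subgroup (Equiv.Perm (R K V))} (lam : A → (R K V)ˣ)
  (hlam : ∀ a : A, cj K V (lam a) = a) (hab : ∀ a ∈ A, ∀ b ∈ A, a * b = b * a)
  (hrad : ∀ x : (R K V)ˣ, cj K V x ∈ A → (∀ Y ∈ Lf A, (x : R K V) * Y = Y * x) → cj K V x = 1)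

theorem unit_smul_ne {x : (R K V)ˣ} {c : K} (h : c • (x : R K V) = 0) : c = 0 := by
  by_contra hc
  have h1 : (x : R K V) = 0 := (smul_eq_zero.1 h).resolve_left hc
  have h2 : (x : R K V) * (x⁻¹ : (R K V)ˣ) = 1 := x.mul_inv
  rw [h1, zero_mul] at h2
  exact zero_ne_one h2

include hlam in
/-- lifts of the same element differ by a scalar -/
theorem lift_eq {x : (R K V)ˣ} (hx : cj K V x ∈ A) : ∃ c : K, (x : R K V) = c • (lam ⟨_, hx⟩ : R K V) := by
  have h1 : cj K V (x * (lam ⟨_, hx⟩)⁻¹) = 1 := by
    rw [map_mul, map_inv, hlam, mul_inv_cancel]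
  obtain ⟨c, hc⟩ := cj_eq_one h1
  refine ⟨c, ?_⟩
  have h2 : (x : R K V) = ((x * (lam ⟨_, hx⟩)⁻¹ : (R K V)ˣ) : R K V) * (lam ⟨_, hx⟩ : R K V) := by
    rw [Units.val_mul, mul_assoc, Units.inv_mul, mul_one]
  rw [h2, hc, smul_mul_assoc, one_mul]

include hlam hab in
/-- the commutator scalars -/
theorem exists_chi : ∃ χ : A → A → K, ∀ a b : A,
    (lam b : R K V) * lam a = χ b a • ((lam a : R K V) * lam b) := by
  have h : ∀ a b : A, ∃ c : K, (lam b : R K V) * lam a = c • ((lam a : R K V) * lam b) := by
    intro a b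
    have h1 : cj K V ((lam b * lam a) * (lam a * lam b)⁻¹) = 1 := by
      rw [map_mul, map_inv, map_mul, map_mul, hlam, hlam, hab b b.2 a a.2, mul_inv_cancel]
    obtain ⟨c, hc⟩ := cj_eq_one h1
    refine ⟨c, ?_⟩
    have h2 : ((lam b * lam a : (R K V)ˣ) : R K V) =
        (((lam b * lam a) * (lam a * lam b)⁻¹ : (R K V)ˣ) : R K V) *
          ((lam a * lam b : (R K V)ˣ) : R K V) := by
      rw [← Units.val_mul, inv_mul_cancel_right]
    rw [hc, smul_mul_assoc, one_mul, Units.val_mul, Units.val_mul] at h2
    exact h2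
  choose f hf using h
  exact ⟨fun b a => f a b, fun a b => hf a b⟩

variable (χ : A → A → K) (hχ : ∀ a b : A, (lam b : R K V) * lam a = χ b a • ((lam a : R K V) * lam b))

include hχ in
/-- conjugation by a lift -/
theorem conj_lift (a b : A) : (lam b : R K V) * lam a * ((lam b)⁻¹ : (R K V)ˣ) =
    χ b a • (lam a : R K V) := by
  rw [hχ, smul_mul_assoc, mul_assoc, Units.mul_inv, mul_one]

include hlam hab hrad hχ in
/-- the characters separate the elements of `A` -/
theorem chi_sep {a a' : A} (h : ∀ b : A, χ b a = χ b a') : a = a' := by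
  have h1 : cj K V ((lam a)⁻¹ * lam a') = 1 := by
    apply hrad
    · rw [map_mul, map_inv, hlam, hlam]
      exact A.mul_mem (A.inv_mem a.2) a'.2
    · rintro _ ⟨y, rfl, hy⟩
      obtain ⟨c, hc⟩ := lift_eq lam hlam hy
      set b : A := ⟨_, hy⟩
      have h2 : (lam b : R K V) * ((lam a)⁻¹ * lam a' : (R K V)ˣ) =
          ((lam a)⁻¹ * lam a' : (R K V)ˣ) * lam b := by
        have hne : χ b a' ≠ 0 := by
          intro h0
          have h3 := hχ a' b
          rw [h0, zero_smul, ← Units.val_mul] at h3
          have h4 : ((lam b * lam a' : (R K V)ˣ) : R K V) * ((lam b * lam a')⁻¹ : (R K V)ˣ) = 1 :=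
            Units.mul_inv _
          rw [h3, zero_mul] at h4
          exact zero_ne_one h4
        -- `lam b (lam a)⁻¹ = χ⁻¹ (lam a)⁻¹ lam b`
        have h5 : χ b a • ((lam b : R K V) * ((lam a)⁻¹ : (R K V)ˣ)) =
            ((lam a)⁻¹ : (R K V)ˣ) * (lam b : R K V) := by
          calc χ b a • ((lam b : R K V) * ((lam a)⁻¹ : (R K V)ˣ))
              = ((lam a)⁻¹ : (R K V)ˣ) * (χ b a • ((lam a : R K V) * lam b)) *
                  ((lam a)⁻¹ : (R K V)ˣ) := by
                rw [mul_smul_comm, ← mul_assoc, Units.inv_mul, one_mul, smul_mul_assoc]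
            _ = ((lam a)⁻¹ : (R K V)ˣ) * ((lam b : R K V) * lam a) * ((lam a)⁻¹ : (R K V)ˣ) := by
                rw [hχ a b]
            _ = ((lam a)⁻¹ : (R K V)ˣ) * (lam b : R K V) := by
                rw [mul_assoc, mul_assoc, Units.mul_inv, mul_one]
        rw [h] at h5
        apply smul_right_injective (R K V) hne
        show χ b a' • _ = χ b a' • _
        rw [Units.val_mul, ← mul_assoc, ← smul_mul_assoc, h5, mul_assoc, hχ, mul_smul_comm, mul_assoc]
      rw [hc, smul_mul_assoc, mul_smul_comm, h2]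
  rw [map_mul, map_inv, hlam, hlam] at h1
  exact Subtype.ext (inv_mul_eq_one.1 h1)

include hlam hab hrad hχ in
theorem lam_indep : LinearIndependent K (fun a : A => (lam a : R K V)) := by
  classical
  rw [linearIndependent_iff']
  intro s
  induction s using Finset.induction_on with
  | empty => intro g _ i hi; simp at hi
  | insert a0 s ha0 ih =>
    intro g hg
    have h1 : ∀ b : A, ∑ a ∈ s, (g a * (χ b a - χ b a0)) • (lam a : R K V) = 0 := by
      intro b
      have h2 : (lam b : R K V) * (∑ a ∈ insert a0 s, g a • (lam a : R K V)) *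
          ((lam b)⁻¹ : (R K V)ˣ) - χ b a0 • (∑ a ∈ insert a0 s, g a • (lam a : R K V)) = 0 := by
        rw [hg, mul_zero, zero_mul, smul_zero, sub_zero]
      rw [Finset.mul_sum, Finset.sum_mul, Finset.smul_sum, ← Finset.sum_sub_distrib,
        Finset.sum_insert ha0] at h2
      have h3 : ∀ a, (lam b : R K V) * (g a • (lam a : R K V)) * ((lam b)⁻¹ : (R K V)ˣ) -
          χ b a0 • (g a • (lam a : R K V)) = (g a * (χ b a - χ b a0)) • (lam a : R K V) := by
        intro a
        rw [mul_smul_comm, smul_mul_assoc, conj_lift lam χ hχ, smul_smul, smul_smul, ← sub_smul]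
        congr 1
        ring
      simp only [h3, sub_self, mul_zero, zero_smul, zero_add] at h2
      exact h2
    have h4 : ∀ a ∈ s, g a = 0 := by
      intro a ha
      by_contra hga
      have h5 : a = a0 := by
        apply chi_sep lam hlam hab hrad χ hχ
        intro b
        have h6 := ih _ (h1 b) a ha
        rcases mul_eq_zero.1 h6 with h7 | h7
        · exact absurd h7 hga
        · exact sub_eq_zero.1 h7
      rw [h5] at ha
      exact ha0 ha
    intro a ha
    rcases Finset.mem_insert.1 ha with rfl | ha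
    · rw [Finset.sum_insert ha0, Finset.sum_eq_zero (fun a ha => by rw [h4 a ha, zero_smul]),
        add_zero] at hg
      exact unit_smul_ne hg
    · exact h4 a ha

include hlam in
theorem span_lam : Submodule.span K (Set.range fun a : A => (lam a : R K V)) =
    (DA A).toSubmodule := by
  rw [DA_eq_span]
  apply le_antisymm
  · rw [Submodule.span_le]
    rintro _ ⟨a, rfl⟩
    exact Submodule.subset_span ⟨lam a, rfl, by rw [hlam]; exact a.2⟩
  · rw [Submodule.span_le]
    rintro _ ⟨x, rfl, hx⟩
    obtain ⟨c, hc⟩ := lift_eq lam hlam hx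
    rw [hc]
    exact Submodule.smul_mem _ _ (Submodule.subset_span ⟨_, rfl⟩)

include hlam hab hrad hχ in
theorem finrank_DA [Finite A] : finrank K (DA A) = Nat.card A := by
  have : Fintype A := Fintype.ofFinite A
  have h1 := finrank_span_eq_card (lam_indep lam hlam hab hrad χ hχ)
  rw [span_lam lam hlam] at h1
  rw [Nat.card_eq_fintype_card, ← h1]
  rfl

include hlam in
theorem lam_mem (a : A) : (lam a : R K V) ∈ DA A :=
  lf_le_DA ⟨lam a, rfl, by rw [hlam]; exact a.2⟩

include hlam in
theorem lam_inv_mem (a : A) : (((lam a)⁻¹ : (R K V)ˣ) : R K V) ∈ DA A :=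
  lf_le_DA ⟨(lam a)⁻¹, rfl, by rw [map_inv, hlam]; exact A.inv_mem a.2⟩

include hlam hab hrad hχ in
/-- an ideal containing a non-zero element contains one -/
theorem ideal_one (I : TwoSidedIdeal (DA A)) (s : Finset A) : ∀ (g : A → K) (X : DA A),
    X ∈ I → X ≠ 0 → (X : R K V) = ∑ a ∈ s, g a • (lam a : R K V) → (1 : DA A) ∈ I := by
  classical
  induction s using Finset.induction_on with
  | empty =>
    intro g X _ hX0 hX
    exact absurd (Subtype.ext hX) hX0
  | insert a0 s ha0 ih =>
    intro g X hXI hX0 hX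
    by_cases hall : ∀ b : A, ∑ a ∈ s, (g a * (χ b a - χ b a0)) • (lam a : R K V) = 0
    · have h4 : ∀ a ∈ s, g a = 0 := by
        intro a ha
        by_contra hga
        have h5 : a = a0 := by
          apply chi_sep lam hlam hab hrad χ hχ
          intro b
          have h6 := (linearIndependent_iff'.1 (lam_indep lam hlam hab hrad χ hχ)) s _ (hall b) a ha
          rcases mul_eq_zero.1 h6 with h7 | h7
          · exact absurd h7 hga
          · exact sub_eq_zero.1 h7
        rw [h5] at ha
        exact ha0 ha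
      rw [Finset.sum_insert ha0, Finset.sum_eq_zero (fun a ha => by rw [h4 a ha, zero_smul]),
        add_zero] at hX
      have hg0 : g a0 ≠ 0 := by
        intro h
        rw [h, zero_smul] at hX
        exact hX0 (Subtype.ext hX)
      have h7 := I.mul_mem_left ((g a0)⁻¹ • ⟨_, lam_inv_mem lam hlam a0⟩ : DA A) X hXI
      convert h7 using 1
      apply Subtype.ext
      show (1 : R K V) = ((g a0)⁻¹ • (((lam a0)⁻¹ : (R K V)ˣ) : R K V)) * (X : R K V)
      rw [hX, smul_mul_assoc, mul_smul_comm, Units.inv_mul, smul_smul, inv_mul_cancel₀ hg0, one_smul]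
    · push Not at hall
      obtain ⟨b, hb⟩ := hall
      let Y : DA A := ⟨_, lam_mem lam hlam b⟩ * X * ⟨_, lam_inv_mem lam hlam b⟩ - χ b a0 • X
      have hYI : Y ∈ I := by
        apply I.sub_mem
        · exact I.mul_mem_right _ _ (I.mul_mem_left _ _ hXI)
        · have := I.mul_mem_left (χ b a0 • (1 : DA A)) X hXI
          rwa [smul_mul_assoc, one_mul] at this
      have hY : (Y : R K V) = ∑ a ∈ s, (g a * (χ b a - χ b a0)) • (lam a : R K V) := by
        show (lam b : R K V) * (X : R K V) * ((lam b)⁻¹ : (R K V)ˣ) - χ b a0 • (X : R K V) = _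
        rw [hX, Finset.mul_sum, Finset.sum_mul, Finset.smul_sum, ← Finset.sum_sub_distrib,
          Finset.sum_insert ha0]
        have h3 : ∀ a, (lam b : R K V) * (g a • (lam a : R K V)) * ((lam b)⁻¹ : (R K V)ˣ) -
            χ b a0 • (g a • (lam a : R K V)) = (g a * (χ b a - χ b a0)) • (lam a : R K V) := by
          intro a
          rw [mul_smul_comm, smul_mul_assoc, conj_lift lam χ hχ, smul_smul, smul_smul, ← sub_smul]
          congr 1
          ring
        simp only [h3, sub_self, mul_zero, zero_smul, zero_add]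
      exact ih _ Y hYI (fun h => hb (by rw [← hY, h]; rfl)) hY

include hlam in
theorem exists_coeff [Fintype A] (X : DA A) :
    ∃ g : A → K, (X : R K V) = ∑ a, g a • (lam a : R K V) := by
  have h1 : (X : R K V) ∈ Submodule.span K (Set.range fun a : A => (lam a : R K V)) := by
    rw [span_lam lam hlam]
    exact X.2
  obtain ⟨g, hg⟩ := (Submodule.mem_span_range_iff_exists_fun K).1 h1
  exact ⟨g, hg.symm⟩

include hlam hab hrad hχ in
theorem isSimple_DA [Finite A] : IsSimpleRing (DA A) := by
  have : Fintype A := Fintype.ofFinite A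
  have hnt : Nontrivial (DA A) := inferInstance
  refine ⟨⟨fun I => ?_⟩⟩
  by_cases hI : I = ⊥
  · exact Or.inl hI
  right
  rw [← TwoSidedIdeal.one_mem_iff]
  obtain ⟨X, hXI, hX0⟩ : ∃ X ∈ I, X ≠ 0 := by
    by_contra hcon
    push Not at hcon
    apply hI
    rw [eq_bot_iff]
    intro x hx
    rw [TwoSidedIdeal.mem_bot]
    exact hcon x hx
  obtain ⟨g, hg⟩ := exists_coeff lam hlam X
  exact ideal_one lam hlam hab hrad χ hχ I Finset.univ g X hXI hX0 hg

include hlam hab hrad hχ in
/-- the centre of `K[A^]` -/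
theorem center_DA [Finite A] (X : DA A) (h : ∀ Y : DA A, X * Y = Y * X) :
    ∃ c : K, X = algebraMap K (DA A) c := by
  classical
  have : Fintype A := Fintype.ofFinite A
  obtain ⟨g, hg⟩ := exists_coeff lam hlam X
  have h1 : ∀ a b : A, g a * (χ b a - 1) = 0 := by
    intro a b
    have h2 : (lam b : R K V) * (X : R K V) * ((lam b)⁻¹ : (R K V)ˣ) - (X : R K V) = 0 := by
      have h3 := congrArg (fun z : DA A => (z : R K V)) (h ⟨_, lam_mem lam hlam b⟩)
      have h4 : (X : R K V) * (lam b : R K V) = (lam b : R K V) * (X : R K V) := h3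
      rw [← h4, mul_assoc, Units.mul_inv, mul_one, sub_self]
    rw [hg, Finset.mul_sum, Finset.sum_mul, ← Finset.sum_sub_distrib] at h2
    have h3 : ∀ a, (lam b : R K V) * (g a • (lam a : R K V)) * ((lam b)⁻¹ : (R K V)ˣ) -
        g a • (lam a : R K V) = (g a * (χ b a - 1)) • (lam a : R K V) := by
      intro a
      rw [mul_smul_comm, smul_mul_assoc, conj_lift lam χ hχ, smul_smul, ← sub_smul]
      congr 1
      ring
    simp only [h3] at h2
    exact (linearIndependent_iff'.1 (lam_indep lam hlam hab hrad χ hχ)) Finset.univ _ h2 a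
      (Finset.mem_univ a)
  obtain ⟨c, hc⟩ := cj_eq_one (show cj K V (lam 1) = 1 by rw [hlam]; rfl)
  have hχ1 : ∀ b : A, χ b 1 = 1 := by
    intro b
    have h2 := hχ 1 b
    have h3 : (lam b : R K V) * lam 1 = (lam 1 : R K V) * lam b := by
      rw [hc, mul_smul_comm, smul_mul_assoc, one_mul, mul_one]
    have h4 : (χ b 1 - 1) • ((lam 1 * lam b : (R K V)ˣ) : R K V) = 0 := by
      rw [sub_smul, one_smul, Units.val_mul, ← h2, h3, sub_self]
    exact sub_eq_zero.1 (unit_smul_ne h4)
  have h5 : ∀ a : A, a ≠ 1 → g a = 0 := by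
    intro a ha
    by_contra hga
    apply ha
    apply chi_sep lam hlam hab hrad χ hχ
    intro b
    rw [hχ1, ← sub_eq_zero]
    exact (mul_eq_zero.1 (h1 a b)).resolve_left hga
  refine ⟨g 1 * c, Subtype.ext ?_⟩
  rw [hg, Finset.sum_eq_single 1 (fun a _ ha => by rw [h5 a ha, zero_smul])
    (fun h => absurd (Finset.mem_univ _) h), hc, smul_smul]
  show _ = algebraMap K (R K V) (g 1 * c)
  rw [Algebra.algebraMap_eq_smul_one]

include hlam hab hrad hχ in
/-- `K[A^] ≅ M_m(K)` -/
theorem exists_matrix [Finite K] [FiniteDimensional K V] [Finite A] :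
    ∃ (m : ℕ) (_ : 0 < m) (ψ : Matrix (Fin m) (Fin m) K ≃ₐ[K] DA A), Nat.card A = m * m := by
  have : Finite (R K V) := Module.finite_of_finite K
  have hfin : Finite (DA A) := inferInstance
  have hs : IsSimpleRing (DA A) := isSimple_DA lam hlam hab hrad χ hχ
  have : IsArtinianRing (DA A) := inferInstance
  obtain ⟨m, hm, D, iD, iA, iF, ⟨e⟩⟩ :=
    IsSimpleRing.exists_algEquiv_matrix_divisionRing_finite K (DA A)
  have : Finite D := Module.finite_of_finite K
  let iDF : Field D := littleWedderburn D
  have hbij : Function.Bijective (algebraMap K D) := by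
    refine ⟨(algebraMap K D).injective, fun d => ?_⟩
    let M : Matrix (Fin m) (Fin m) D := Matrix.diagonal fun _ => d
    have hM : ∀ Y : DA A, e.symm M * Y = Y * e.symm M := by
      intro Y
      apply e.injective
      rw [map_mul, map_mul, AlgEquiv.apply_symm_apply]
      ext i j
      rw [Matrix.diagonal_mul, Matrix.mul_diagonal]
      exact iDF.mul_comm _ _
    obtain ⟨c, hc⟩ := center_DA lam hlam hab hrad χ hχ (e.symm M) hM
    refine ⟨c, ?_⟩
    have h1 : M = algebraMap K _ c := by
      rw [← AlgEquiv.apply_symm_apply e M, hc, AlgEquiv.commutes]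
    have i0 : Fin m := ⟨0, Nat.pos_of_ne_zero hm.ne⟩
    have h2 := congrFun (congrFun h1 i0) i0
    rw [Matrix.algebraMap_matrix_apply, if_pos rfl] at h2
    rw [← h2]
    show Matrix.diagonal (fun _ => d) i0 i0 = d
    rw [Matrix.diagonal_apply_eq]
  let e1 : K ≃ₐ[K] D := AlgEquiv.ofBijective (Algebra.ofId K D) hbij
  let ψ : Matrix (Fin m) (Fin m) K ≃ₐ[K] DA A := (e1.mapMatrix).trans e.symm
  refine ⟨m, Nat.pos_of_ne_zero hm.ne, ψ, ?_⟩
  rw [← finrank_DA lam hlam hab hrad χ hχ, ← LinearEquiv.finrank_eq ψ.toLinearEquiv,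
    Module.finrank_matrix, Module.finrank_self, mul_one, Fintype.card_fin]

end NC

end

end Cfsg.Agent.H886.FC
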