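import Cfsg.Agent.H886.FC.Comm
import Cfsg.Agent.H886.FC.Quat

/-!
# S5764: the classification `StmtClass` (task L-CL)
-/

set_option autoImplicit false

universe u v

namespace Cfsg.Agent.H886.FC

open Module Cfsg.Agent.H198.FC

section

variable {K : Type u} [Field K] {V : Type v} [AddCommGroup V] [Module K V]

/-- the reducible alternative -/
def Red (S : Subgroup (Equiv.Perm (R K V))) : Prop :=
  ∃ W : Submodule K V, W ≠ ⊥ ∧ W ≠ ⊤ ∧ ∀ f ∈ S, f ∈ RP K V → Stb f W

theorem norm_inv {S A : Subgroup (Equiv.Perm (R K V))} (h : ∀ f ∈ S, ∀ a ∈ A, f * a * f⁻¹ ∈ A)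
    {f : Equiv.Perm (R K V)} (hf : f ∈ S) : ∀ a ∈ A, f⁻¹ * a * f⁻¹⁻¹ ∈ A :=
  h f⁻¹ (S.inv_mem hf)

/-- the unipotent case -/
theorem red_of_char [Finite K] [FiniteDimensional K V] [Nontrivial V]
    {S A : Subgroup (Equiv.Perm (R K V))} (hS : S ≤ RA K V) {r : ℕ} (hr : r.Prime)
    (hA0 : A ≠ ⊥) (hA : A ≤ IN K V) (hAS : ∀ f ∈ S, ∀ a ∈ A, f * a * f⁻¹ ∈ A)
    (hab : ∀ a ∈ A, ∀ b ∈ A, a * b = b * a) (hAr : ∀ a ∈ A, a ^ r = 1) (hrK : (r : K) = 0) :
    Red S := by
  have : Fact r.Prime := ⟨hr⟩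
  have : CharP K r := (CharP.charP_iff_prime_eq_zero hr).2 hrK
  have : Finite V := Module.finite_of_finite K
  have : Finite (R K V) := Module.finite_of_finite K
  -- the unipotent lifts commute
  have hcm : ∀ x y : (R K V)ˣ, cj K V x ∈ A → x ^ r = 1 → cj K V y ∈ A → x * y = y * x := by
    intro x y hx hxr hy
    have h1 : cj K V ((x * y) * (y * x)⁻¹) = 1 := by
      rw [map_mul, map_inv, map_mul, map_mul, hab _ hx _ hy, mul_inv_cancel]
    obtain ⟨c, hc⟩ := cj_eq_one h1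
    have h2 : (x : R K V) * y = c • ((y : R K V) * x) := by
      have h3 : ((x * y : (R K V)ˣ) : R K V) = (((x * y) * (y * x)⁻¹ : (R K V)ˣ) : R K V) *
          ((y * x : (R K V)ˣ) : R K V) := by
        rw [← Units.val_mul, inv_mul_cancel_right]
      rw [hc, smul_mul_assoc, one_mul, Units.val_mul, Units.val_mul] at h3
      exact h3
    have h4 : ∀ k : ℕ, (x : R K V) ^ k * y = c ^ k • ((y : R K V) * (x : R K V) ^ k) := by
      intro k
      induction k with
      | zero => simp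
      | succ k ih =>
        rw [pow_succ', mul_assoc, ih, mul_smul_comm, ← mul_assoc, h2, smul_mul_assoc, smul_smul,
          mul_assoc, ← pow_succ, ← pow_succ']
    have h5 := h4 r
    have hxr' : (x : R K V) ^ r = 1 := by
      rw [← Units.val_pow_eq_pow_val, hxr, Units.val_one]
    rw [hxr', one_mul, mul_one] at h5
    have h6 : (c ^ r - 1) • (y : R K V) = 0 := by rw [sub_smul, one_smul, ← h5, sub_self]
    have h7 : c ^ r - 1 = 0 := unit_smul_ne h6
    have h8 : (c - 1) ^ r = 0 := by rw [sub_pow_char, one_pow, h7]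
    have h9 : c = 1 := sub_eq_zero.1 (pow_eq_zero_iff hr.ne_zero |>.1 h8)
    apply Units.ext
    rw [Units.val_mul, Units.val_mul, h2, h9, one_smul]
  let U : Subgroup (R K V)ˣ :=
    { carrier := {x | cj K V x ∈ A ∧ x ^ r = 1}
      mul_mem' := by
        rintro x y ⟨hx, hx'⟩ ⟨hy, hy'⟩
        refine ⟨by rw [map_mul]; exact A.mul_mem hx hy, ?_⟩
        rw [(show Commute x y from hcm x y hx hx' hy).mul_pow, hx', hy', one_mul]
      one_mem' := ⟨by rw [map_one]; exact A.one_mem, one_pow r⟩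
      inv_mem' := by
        rintro x ⟨hx, hx'⟩
        exact ⟨by rw [map_inv]; exact A.inv_mem hx, by rw [inv_pow, hx', inv_one]⟩ }
  have hU : ∀ x, x ∈ U ↔ cj K V x ∈ A ∧ x ^ r = 1 := fun x => Iff.rfl
  have hpU : IsPGroup r U := by
    intro x
    refine ⟨1, ?_⟩
    rw [pow_one]
    exact Subtype.ext x.2.2
  -- every element of `A` has a unipotent lift
  have hlift : ∀ a ∈ A, ∃ x ∈ U, cj K V x = a := by
    intro a ha
    obtain ⟨x, hx⟩ := hA ha
    have h1 : cj K V (x ^ r) = 1 := by rw [map_pow, hx, hAr a ha]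
    obtain ⟨c, hc⟩ := cj_eq_one h1
    have hc0 : c ≠ 0 := by
      rintro rfl
      have h2 : ((1 : K)) • ((x ^ r : (R K V)ˣ) : R K V) = 0 := by rw [hc]; simp
      exact one_ne_zero (unit_smul_ne h2)
    obtain ⟨d, hd⟩ : ∃ d : K, d ^ r = c := by
      have : Function.Surjective (frobenius K r) :=
        Finite.surjective_of_injective (frobenius_inj K r)
      exact this c
    have hd0 : d ≠ 0 := by
      rintro rfl
      rw [zero_pow hr.ne_zero] at hd
      exact hc0 hd.symm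
    let y : (R K V)ˣ := (Units.mk0 d hd0)⁻¹ • x
    have hy : (y : R K V) = d⁻¹ • (x : R K V) := rfl
    have hyr : y ^ r = 1 := by
      apply Units.ext
      rw [Units.val_pow_eq_pow_val, hy, smul_pow, ← Units.val_pow_eq_pow_val, hc, smul_smul,
        inv_pow, hd, inv_mul_cancel₀ hc0, one_smul, Units.val_one]
    have hyx : cj K V y = cj K V x := by
      have h3 : cj K V (y * x⁻¹) = 1 := by
        apply cj_scalar (c := d⁻¹)
        rw [Units.val_mul, hy, smul_mul_assoc, Units.mul_inv]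
      rw [map_mul, map_inv] at h3
      exact mul_inv_eq_one.1 h3
    exact ⟨y, (hU y).2 ⟨by rw [hyx, hx]; exact ha, hyr⟩, by rw [hyx, hx]⟩
  let W : Submodule K V :=
    { carrier := {v | ∀ x ∈ U, (x : R K V) v = v}
      add_mem' := by
        intro v w hv hw x hx
        rw [map_add, hv x hx, hw x hx]
      zero_mem' := fun x _ => map_zero _
      smul_mem' := by
        intro c v hv x hx
        rw [map_smul, hv x hx] }
  have hW : ∀ v, v ∈ W ↔ ∀ x ∈ U, (x : R K V) v = v := fun v => Iff.rfl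
  refine ⟨W, ?_, ?_, ?_⟩
  · have hcard : r ∣ Nat.card V := by
      rw [Module.natCard_eq_pow_finrank (K := K) (V := V)]
      apply dvd_pow _ (Module.finrank_pos).ne'
      have : Fintype K := Fintype.ofFinite K
      rw [Nat.card_eq_fintype_card]
      obtain ⟨⟨k, hk0⟩, hpp, hk⟩ := FiniteField.card K r
      rw [hk]
      exact dvd_pow_self r hk0.ne'
    obtain ⟨b, hb, hb0⟩ := hpU.exists_fixed_point_of_prime_dvd_card_of_fixed_point V hcard
      (a := (0 : V)) (by intro x; exact map_zero _)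
    intro hbot
    have : b ∈ W := (hW b).2 fun x hx => hb ⟨x, hx⟩
    rw [hbot, Submodule.mem_bot] at this
    exact hb0 this.symm
  · intro htop
    apply hA0
    rw [Subgroup.eq_bot_iff_forall]
    intro a ha
    obtain ⟨x, hx, rfl⟩ := hlift a ha
    apply cj_scalar (c := 1)
    rw [one_smul]
    ext v
    have : v ∈ W := by rw [htop]; trivial
    exact (hW v).1 this x hx
  · intro f hf hfP X hX v
    rw [hW]
    intro x hx
    have hfi : f⁻¹ ∈ RA K V := inv_mem (hS hf)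
    have hx' : fU f⁻¹ hfi x ∈ U := by
      refine (hU _).2 ⟨fU_mem hfi (norm_inv hAS hf) hx.1, ?_⟩
      apply Units.ext
      rw [Units.val_pow_eq_pow_val, fU_val, ← ra_pow hfi, ← Units.val_pow_eq_pow_val, hx.2,
        Units.val_one, ra_one hfi]
    have h1 : f⁻¹ (x : R K V) * X = X := by
      ext w
      exact (hW _).1 (hX w) _ hx'
    have h2 : (x : R K V) * f X = f X := by
      conv_rhs => rw [← h1, hfP.2]
      congr 1
      exact (f.apply_symm_apply _).symm
    rw [← Module.End.mul_apply, h2]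

/-- the commutative case with several primitive idempotents -/
theorem comm_many [Finite K] [FiniteDimensional K V] (hn : 1 ≤ finrank K V)
    {S A : Subgroup (Equiv.Perm (R K V))} (hS : S ≤ RA K V)
    (hAS : ∀ f ∈ S, ∀ a ∈ A, f * a * f⁻¹ ∈ A)
    (hc : ∀ X ∈ Lf A, ∀ Y ∈ Lf A, X * Y = Y * X) {e₂ : R K V} (he₂ : e₂ ∈ Prim A) (hne : e₂ ≠ 1) :
    Red S ∨ (∃ (k d : ℕ) (e : Fin k → R K V), 2 ≤ k ∧ 1 ≤ d ∧ CompleteOrthogonalIdempotents e ∧
      (∀ i, finrank K (LinearMap.range (e i)) = d) ∧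
      ∀ f ∈ S, ∃ π : Equiv.Perm (Fin k), ∀ i, f (e i) = e (π i)) := by
  classical
  obtain ⟨P, hP, hsum⟩ := exists_finset hc
  have hmap : ∀ f ∈ S, ∀ e ∈ P, f e ∈ P := fun f hf e he =>
    (hP _).2 (prim_map hc (hS hf) (hAS f hf) (norm_inv hAS hf) ((hP e).1 he))
  have hmul : ∀ s : Finset (R K V), s ⊆ P → ∀ e ∈ P, (∑ g ∈ s, g) * e = if e ∈ s then e else 0 := by
    intro s hs e he
    rw [Finset.sum_mul]
    split_ifs with h
    · rw [Finset.sum_eq_single e]
      · exact ((hP e).1 he).2.1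
      · intro g hg hge
        exact prim_ortho hc ((hP g).1 (hs hg)) ((hP e).1 he) hge
      · intro h'
        exact absurd h h'
    · apply Finset.sum_eq_zero
      intro g hg
      apply prim_ortho hc ((hP g).1 (hs hg)) ((hP e).1 he)
      rintro rfl
      exact h hg
  by_cases htr : ∀ e ∈ P, ∀ e' ∈ P, ∃ f ∈ S, f ∈ RP K V ∧ f e = e'
  · -- transitive
    right
    have he₂' : e₂ ∈ P := (hP _).2 he₂
    let k := P.card
    let ε := P.equivFin
    let e : Fin k → R K V := fun i => (ε.symm i : R K V)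
    have heP : ∀ i, e i ∈ P := fun i => (ε.symm i).2
    have heinj : ∀ i j, e i = e j → i = j := fun i j h =>
      ε.symm.injective (Subtype.ext h)
    refine ⟨k, finrank K (LinearMap.range e₂), e, ?_, ?_, ?_, ?_, ?_⟩
    · by_contra hk
      have h1 : P.card ≤ 1 := by
        have : ¬ 2 ≤ P.card := hk
        omega
      have h2 : P = {e₂} := by
        apply Finset.eq_singleton_iff_unique_mem.2
        exact ⟨he₂', fun x hx => Finset.card_le_one.1 h1 x hx e₂ he₂'⟩
      rw [h2, Finset.sum_singleton] at hsum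
      exact hne hsum
    · rw [Nat.one_le_iff_ne_zero]
      intro h
      rw [Submodule.finrank_eq_zero, LinearMap.range_eq_bot] at h
      exact he₂.2.2.1 h
    · rw [CompleteOrthogonalIdempotents.iff_ortho_complete]
      refine ⟨fun i j hij => prim_ortho hc ((hP _).1 (heP i)) ((hP _).1 (heP j))
        (fun h => hij (heinj i j h)), ?_⟩
      rw [← hsum, ← Finset.sum_coe_sort P]
      exact Equiv.sum_comp ε.symm (fun x : P => (x : R K V))
    · intro i
      obtain ⟨f, hf, hfP, hfe⟩ := htr e₂ he₂' (e i) (heP i)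
      rw [← hfe, rank_map hfP he₂.2.1 hn]
    · intro f hf
      let F : P ≃ P :=
        { toFun := fun x => ⟨f x, hmap f hf x x.2⟩
          invFun := fun x => ⟨f⁻¹ (x : R K V), hmap f⁻¹ (S.inv_mem hf) x x.2⟩
          left_inv := fun x => Subtype.ext (f.symm_apply_apply _)
          right_inv := fun x => Subtype.ext (f.apply_symm_apply _) }
      refine ⟨(ε.symm.trans F).trans ε, fun i => ?_⟩
      show f (ε.symm i : R K V) = (ε.symm (ε (F (ε.symm i))) : R K V)
      rw [Equiv.symm_apply_apply]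
      rfl
  · -- an orbit
    left
    push Not at htr
    obtain ⟨e₀, he₀, e₁, he₁, h01⟩ := htr
    let O := P.filter fun e => ∃ f ∈ S, f ∈ RP K V ∧ f e₀ = e
    have hO : ∀ e, e ∈ O ↔ e ∈ P ∧ ∃ f ∈ S, f ∈ RP K V ∧ f e₀ = e := fun e => Finset.mem_filter
    have hOP : O ⊆ P := Finset.filter_subset _ _
    set s := ∑ e ∈ O, e with hs
    have h0 : e₀ ∈ O := (hO _).2 ⟨he₀, 1, S.one_mem, (RP K V).one_mem, rfl⟩
    have h1 : e₁ ∉ O := by
      intro h
      obtain ⟨_, f, hf, hfP, hfe⟩ := (hO _).1 h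
      exact h01 f hf hfP hfe
    have hse₀ : s * e₀ = e₀ := by rw [hs, hmul O hOP e₀ he₀, if_pos h0]
    have hse₁ : s * e₁ = 0 := by rw [hs, hmul O hOP e₁ he₁, if_neg h1]
    have hsD : s ∈ DA A := (DA A).sum_mem fun e he => ((hP e).1 (hOP he)).1
    have hss : s * s = s := by
      conv_lhs => rw [hs, Finset.mul_sum]
      refine Finset.sum_congr rfl fun e he => ?_
      rw [hmul O hOP e (hOP he), if_pos he]
    refine ⟨LinearMap.range s, ?_, ?_, ?_⟩
    · intro h
      rw [LinearMap.range_eq_bot] at h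
      rw [h, zero_mul] at hse₀
      exact ((hP _).1 he₀).2.2.1 hse₀.symm
    · intro h
      apply ((hP _).1 he₁).2.2.1
      have h2 : e₁ * s = 0 := by
        rw [DA_comm hc ((hP _).1 he₁).1 hsD, hse₁]
      ext v
      have h3 : v ∈ LinearMap.range s := by rw [h]; trivial
      obtain ⟨w, rfl⟩ := h3
      rw [← Module.End.mul_apply, h2]
      rfl
    · intro f hf hfP
      apply stb_of_idem hfP hss
      rw [hs, ra_sum (hS hf)]
      have hmO : ∀ f ∈ S, f ∈ RP K V → ∀ e ∈ O, f e ∈ O := by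
        intro f hf hfP e he
        obtain ⟨h4, g, hg, hgP, rfl⟩ := (hO _).1 he
        exact (hO _).2 ⟨hmap f hf _ h4, f * g, S.mul_mem hf hg, (RP K V).mul_mem hfP hgP, rfl⟩
      refine Finset.sum_nbij' (fun e => f e) (fun e => f⁻¹ e) (hmO f hf hfP)
        (hmO f⁻¹ (S.inv_mem hf) ((RP K V).inv_mem hfP)) ?_ ?_ ?_
      · intro e _
        exact f.symm_apply_apply e
      · intro e _
        exact f.apply_symm_apply e
      · intro e _
        rfl

/-- nilpotent-free: the noncommutative case -/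
theorem noncomm [Finite K] [FiniteDimensional K V] [Nontrivial V]
    {S A : Subgroup (Equiv.Perm (R K V))} (hS : S ≤ RA K V) {r : ℕ} (hr : r.Prime)
    (hA0 : A ≠ ⊥) (hA : A ≤ IN K V) (hAS' : A ≤ S) (hAS : ∀ f ∈ S, ∀ a ∈ A, f * a * f⁻¹ ∈ A)
    (hmin : ∀ B : Subgroup (Equiv.Perm (R K V)), B ≤ A → (∀ g ∈ S, ∀ f ∈ B, g * f * g⁻¹ ∈ B) →
      B = ⊥ ∨ B = A)
    (hab : ∀ a ∈ A, ∀ b ∈ A, a * b = b * a) (hAr : ∀ a ∈ A, a ^ r = 1)
    (hc : ¬ ∀ X ∈ Lf A, ∀ Y ∈ Lf A, X * Y = Y * X) :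
    (∃ (u' y : ℕ) (Φ : Matrix (Fin u' × Fin y) (Fin u' × Fin y) K ≃ₐ[K] R K V), 2 ≤ u' ∧ 2 ≤ y ∧
      ∀ f ∈ S, ∀ B : Matrix (Fin u') (Fin u') K, ∃ B' : Matrix (Fin u') (Fin u') K,
        f (Φ (Matrix.kroneckerMap (· * ·) B (1 : Matrix (Fin y) (Fin y) K))) =
          Φ (Matrix.kroneckerMap (· * ·) B' (1 : Matrix (Fin y) (Fin y) K))) ∨
    (∃ a : ℕ, C6Data S A r a) := by
  classical
  have : Fact r.Prime := ⟨hr⟩
  have : Finite V := Module.finite_of_finite K
  have : Finite (R K V) := Module.finite_of_finite K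
  -- the radical
  let C : Subgroup (R K V)ˣ :=
    { carrier := {x | cj K V x ∈ A ∧ ∀ Y ∈ Lf A, (x : R K V) * Y = Y * x}
      mul_mem' := by
        rintro x y ⟨hx, hx'⟩ ⟨hy, hy'⟩
        refine ⟨by rw [map_mul]; exact A.mul_mem hx hy, fun Y hY => ?_⟩
        rw [Units.val_mul, mul_assoc, hy' Y hY, ← mul_assoc, hx' Y hY, mul_assoc]
      one_mem' := ⟨by rw [map_one]; exact A.one_mem, fun Y _ => by
        rw [Units.val_one, one_mul, mul_one]⟩
      inv_mem' := by
        rintro x ⟨hx, hx'⟩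
        refine ⟨by rw [map_inv]; exact A.inv_mem hx, fun Y hY => ?_⟩
        have h1 := hx' Y hY
        calc ((x⁻¹ : (R K V)ˣ) : R K V) * Y
            = ((x⁻¹ : (R K V)ˣ) : R K V) * (Y * x) * ((x⁻¹ : (R K V)ˣ) : R K V) := by
              rw [mul_assoc, mul_assoc, Units.mul_inv, mul_one]
          _ = ((x⁻¹ : (R K V)ˣ) : R K V) * (x * Y) * ((x⁻¹ : (R K V)ˣ) : R K V) := by rw [h1]
          _ = Y * ((x⁻¹ : (R K V)ˣ) : R K V) := by
              rw [← mul_assoc, Units.inv_mul, one_mul] }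
  have hC : ∀ x, x ∈ C ↔ cj K V x ∈ A ∧ ∀ Y ∈ Lf A, (x : R K V) * Y = Y * x := fun x => Iff.rfl
  have hCf : ∀ f (hf : f ∈ S), ∀ x ∈ C, fU f (hS hf) x ∈ C := by
    intro f hf x hx
    refine (hC _).2 ⟨fU_mem (hS hf) (hAS f hf) hx.1, fun Y hY => ?_⟩
    have h1 : f⁻¹ Y ∈ Lf A := map_lf (inv_mem (hS hf)) (norm_inv hAS hf) hY
    have h2 := ra_comm (hS hf) (hx.2 _ h1)
    rw [show f (f⁻¹ Y) = Y from f.apply_symm_apply Y] at h2
    exact h2
  let B : Subgroup (Equiv.Perm (R K V)) := C.map (cj K V)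
  have hBA : B ≤ A := by
    rintro _ ⟨x, hx, rfl⟩
    exact hx.1
  have hBS : ∀ g ∈ S, ∀ f ∈ B, g * f * g⁻¹ ∈ B := by
    rintro g hg _ ⟨x, hx, rfl⟩
    rcases (hS hg).2 with h | h
    · rw [conj_cj_rp (hS hg) h]
      exact ⟨_, hCf g hg x hx, rfl⟩
    · rw [conj_cj_anti (hS hg) h]
      exact B.inv_mem ⟨_, hCf g hg x hx, rfl⟩
  have hB : B = ⊥ := by
    rcases hmin B hBA hBS with h | h
    · exact h
    · exfalso
      apply hc
      rintro _ ⟨x, rfl, hx⟩ Y hY
      rw [← h] at hx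
      obtain ⟨x', hx', hxx⟩ := hx
      have h1 : cj K V (x * x'⁻¹) = 1 := by rw [map_mul, map_inv, hxx, mul_inv_cancel]
      obtain ⟨c, hcc⟩ := cj_eq_one h1
      have h2 : (x : R K V) = c • (x' : R K V) := by
        have h3 : (x : R K V) = ((x * x'⁻¹ : (R K V)ˣ) : R K V) * (x' : R K V) := by
          rw [← Units.val_mul, inv_mul_cancel_right]
        rw [h3, hcc, smul_mul_assoc, one_mul]
      rw [h2, smul_mul_assoc, mul_smul_comm, hx'.2 Y hY]
  have hrad : ∀ x : (R K V)ˣ, cj K V x ∈ A → (∀ Y ∈ Lf A, (x : R K V) * Y = Y * x) →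
      cj K V x = 1 := by
    intro x hx hx'
    have h1 : cj K V x ∈ B := ⟨x, ⟨hx, hx'⟩, rfl⟩
    rwa [hB, Subgroup.mem_bot] at h1
  -- the lifts
  have hex : ∀ a : A, ∃ x : (R K V)ˣ, cj K V x = a := fun a => hA a.2
  choose lam hlam using hex
  obtain ⟨χ, hχ⟩ := exists_chi lam hlam hab
  obtain ⟨m, hm0, ψ, hcard⟩ := exists_matrix lam hlam hab hrad χ hχ
  have hcA : 1 < Nat.card A := by
    have h1 : Nat.card A ≠ 1 := fun h => hA0 (Subgroup.card_eq_one.1 h)
    have h2 : 0 < Nat.card A := Nat.card_pos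
    omega
  have hm2 : 2 ≤ m := by
    by_contra h
    have h1 : m = 1 := by omega
    rw [h1] at hcard
    omega
  obtain ⟨y, Φ, hΦ, hfr⟩ := exists_tensor m ⟨0, hm0⟩ ((DA A).val.comp (ψ : _ →ₐ[K] _))
  have hΦ' : ∀ B : Matrix (Fin m) (Fin m) K,
      Φ (Matrix.kroneckerMap (· * ·) B (1 : Matrix (Fin y) (Fin y) K)) = (ψ B : R K V) := hΦ
  have hn0 : 0 < finrank K V := Module.finrank_pos
  have hy0 : y ≠ 0 := by
    rintro rfl
    omega
  by_cases hy : 2 ≤ y
  · left
    refine ⟨m, y, Φ, hm2, hy, fun f hf B => ?_⟩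
    rw [hΦ']
    have h1 : f (ψ B : R K V) ∈ DA A := map_DA (hS hf) (hAS f hf) (ψ B).2
    refine ⟨ψ.symm ⟨_, h1⟩, ?_⟩
    rw [hΦ', AlgEquiv.apply_symm_apply]
  · right
    have hy1 : y = 1 := by omega
    rw [hy1, mul_one] at hfr
    have hpA : IsPGroup r A := by
      intro a
      refine ⟨1, ?_⟩
      rw [pow_one]
      exact Subtype.ext (hAr a a.2)
    obtain ⟨N, hN⟩ := IsPGroup.iff_card.1 hpA
    obtain ⟨a, _, ha⟩ := (Nat.dvd_prime_pow hr).1 (show m ∣ r ^ N by
      rw [← hN, hcard]; exact dvd_mul_right m m)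
    have ha1 : 1 ≤ a := by
      rw [Nat.one_le_iff_ne_zero]
      rintro rfl
      rw [pow_zero] at ha
      omega
    refine ⟨a, hr, ha1, by rw [hfr, ha], hAS', hA, ?_, hAr, hab, ?_, fun g hg f hf => hAS g hg f hf,
      fun B hB hi => hmin B hB hi⟩
    · rw [hcard, ha, ← pow_add]
      congr 1
      ring
    · have h1 := DA_eq_span A
      have h2 : finrank K (DA A) = finrank K (R K V) := by
        rw [finrank_DA lam hlam hab hrad χ hχ, hcard, Module.finrank_linearMap, hfr]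
      have h3 : (DA A).toSubmodule = ⊤ := Submodule.eq_top_of_finrank_eq h2
      rw [← h3, h1]
      rfl

end

/-- **L-CL** -/
theorem stmtClass : StmtClass.{u, v} := by
  intro K _ _ V _ _ _ S hn hS _ hsol hne
  have : Nontrivial V := Module.nontrivial_of_finrank_pos (R := K) (by omega)
  have : Finite V := Module.finite_of_finite K
  have : Finite (R K V) := Module.finite_of_finite K
  have hINn : ∀ g ∈ S, ∀ a ∈ S ⊓ IN K V, g * a * g⁻¹ ∈ S ⊓ IN K V := by
    rintro g hg _ ⟨ha, ⟨x, rfl⟩⟩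
    refine ⟨S.mul_mem (S.mul_mem hg ha) (S.inv_mem hg), ?_⟩
    rcases (hS hg).2 with h | h
    · rw [conj_cj_rp (hS hg) h]
      exact ⟨_, rfl⟩
    · rw [conj_cj_anti (hS hg) h]
      exact (IN K V).inv_mem ⟨_, rfl⟩
  obtain ⟨A, r, hr, hA0, hAN, hAS, hmin, hab, hAr⟩ :=
    exists_minimal S (S ⊓ IN K V) hsol hne inf_le_left hINn
  have hA : A ≤ IN K V := hAN.trans inf_le_right
  have hAS' : A ≤ S := hAN.trans inf_le_left
  by_cases hrK : (r : K) = 0
  · exact Or.inl (red_of_char hS hr hA0 hA hAS hab hAr hrK)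
  by_cases hc : ∀ X ∈ Lf A, ∀ Y ∈ Lf A, X * Y = Y * X
  · by_cases hP : ∀ e ∈ Prim A, e = 1
    · -- field
      right; right; left
      obtain ⟨Q, hQ, hQd⟩ := exists_Q hr hrK hAr hc
      have hf := isField_DA hc hQ hQd hP
      have hbot : DA A ≠ ⊥ := by
        intro hbot
        apply hA0
        rw [Subgroup.eq_bot_iff_forall]
        intro a ha
        obtain ⟨x, rfl⟩ := hA ha
        have h1 : (x : R K V) ∈ DA A := lf_le_DA ⟨x, rfl, ha⟩
        rw [hbot, Algebra.mem_bot] at h1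
        obtain ⟨c, hcc⟩ := h1
        apply cj_scalar (c := c)
        rw [← hcc, Algebra.algebraMap_eq_smul_one]
      obtain ⟨E, hE, hEp, hEf⟩ := exists_sub (DA A) hf hbot
      exact ⟨E, hE, hEp, fun f hf X hX => hEf f (hS hf) (fun X hX => map_DA (hS hf) (hAS f hf) hX) X hX⟩
    · push Not at hP
      obtain ⟨e₂, he₂, hne₂⟩ := hP
      rcases comm_many (by omega) hS hAS hc he₂ hne₂ with h | h
      · exact Or.inl h
      · exact Or.inr (Or.inl h)
  · rcases noncomm hS hr hA0 hA hAS' hAS hmin hab hAr hc with h | ⟨a, h⟩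
    · exact Or.inr (Or.inr (Or.inr (Or.inl h)))
    · exact Or.inr (Or.inr (Or.inr (Or.inr ⟨A, r, a, h⟩)))

end Cfsg.Agent.H886.FC
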