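import Cfsg.Agent.H886.FC.ClassB
import Cfsg.Agent.H376.FC.ClassNe
import Cfsg.Agent.H786.FC.PartsC4

/-!
# S5764: the classifications `StmtClassN` and `StmtBClassN` (first tensor factor prime to the characteristic)

`StmtClassN` is helper376's `stmtClassNe`; `StmtBClassN` follows from it as `StmtBClass` follows from `StmtClass`: the
adjoint `st` is an element of `RA` commuting with `RB b`, and `StmtClassN` is applied to `S × ⟨st⟩`.
-/

set_option autoImplicit false

universe u v

namespace Cfsg.Agent.H886.FC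

open Module Cfsg.Agent.H198.FC

/-- **L-CL**, with `(u' : K) ≠ 0` -/
theorem stmtClassN : H786.FC.StmtClassN.{u, v} := H376.FC.stmtClassNe.{u, v}

/-- **B-CL**, with `(u' : K) ≠ 0` -/
theorem stmtBClassN : H786.FC.StmtBClassN.{u, v} := by
  intro K _ _ V _ _ _ b hbig S hS hsol hne
  have hn3 : 3 ≤ finrank K V := by
    rcases hbig with ⟨_, h, _⟩ | ⟨_, h, _⟩ <;> omega
  have : Nontrivial V := Module.nontrivial_of_finrank_pos (R := K) (by omega)
  obtain ⟨st, hst, hst2, hstRA, hstm⟩ := exists_st b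
  have hst2' : ∀ X, st (st X) = X := fun X => Equiv.congr_fun hst2 X
  have hcm : ∀ s ∈ S, st * s = s * st := by
    intro s hs
    apply Equiv.ext
    intro X
    exact rb_st hst (hS hs) X
  obtain ⟨S', hsol', hSS', hstS', hdec⟩ := exists_ext S hsol st hst2 hcm
  have hSRP : S ≤ RP K V := fun f hf => (hS hf).1
  have hS'RA : S' ≤ RA K V := by
    intro g hg
    obtain ⟨s, hs, rfl | rfl⟩ := hdec g hg
    · exact RP_le_RA (hSRP hs)
    · exact (RA K V).mul_mem (RP_le_RA (hSRP hs)) hstRA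
  by_cases hTI : ∃ W : Submodule K V, W ≠ ⊥ ∧ b.TI W ∧ ∀ f ∈ S, Stb f W
  · exact Or.inl hTI
  right
  have hTI' : ∀ W : Submodule K V, b.TI W → (∀ f ∈ S, Stb f W) → W = ⊥ := by
    intro W h1 h2
    by_contra h3
    exact hTI ⟨W, h3, h1, h2⟩
  refine ⟨hTI', ?_⟩
  have hred : ∀ W : Submodule K V, W ≠ ⊥ → W ≠ ⊤ → (∀ f ∈ S, Stb f W) →
      (∃ W : Submodule K V, W ≠ ⊥ ∧ W ≠ ⊤ ∧ b.ND W ∧ ∀ f ∈ S, Stb f W) := fun W h1 h2 h3 =>
    ⟨W, h1, h2, nd_of_red hst hS hTI' h3, h3⟩
  rcases stmtClassN K V S' (by omega) hS'RA (fun h => by omega) hsol' (by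
      intro h
      apply hne
      rw [eq_bot_iff, ← h]
      exact inf_le_inf_right _ hSS') with h | h | h | h | h
  · obtain ⟨W, h1, h2, h3⟩ := h
    exact Or.inl (hred W h1 h2 fun f hf => h3 f (hSS' hf) (hSRP hf))
  · obtain ⟨k, d, e, hk, hd, he, hr, hp⟩ := h
    rcases c2_cases hst hst2' (fun X Y => ra_add hstRA X Y) hS hk hd he hr
        (fun f hf => hp f (hSS' hf)) (hp st hstS') with h | h | h
    · obtain ⟨W, h1, h2, h3⟩ := h
      exact Or.inl (hred W h1 h2 h3)
    · exact Or.inr (Or.inl h)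
    · exact Or.inr (Or.inr (Or.inl h))
  · obtain ⟨E, hE, hEp, hEf⟩ := h
    exact Or.inr (Or.inr (Or.inr (Or.inl ⟨E, hE, hEp, fun X hX => ⟨st X, hEf st hstS' X hX, hst X⟩,
      fun f hf => hEf f (hSS' hf)⟩)))
  · obtain ⟨u', y, Φ, hu, hy, huK, h⟩ := h
    refine Or.inr (Or.inr (Or.inr (Or.inr (Or.inl ⟨u', y, Φ, hu, hy, huK, fun B => ?_,
      fun f hf => h f (hSS' hf)⟩))))
    obtain ⟨B', hB'⟩ := h st hstS' B
    refine ⟨B', ?_⟩
    rw [← hB']
    exact hst _
  · obtain ⟨A, r, a, hr, ha, hfr, hAS, hAI, hcard, hAr, hab, hspan, hnorm, hmin⟩ := h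
    have hAS2 : A ≤ S := by
      intro g hg
      obtain ⟨s, hs, h | h⟩ := hdec g (hAS hg)
      · rw [h]; exact hs
      · exfalso
        -- `st` would be a ring automorphism
        have h1 : st ∈ RP K V := by
          have h2 : st = s⁻¹ * g := by rw [h, inv_mul_cancel_left]
          rw [h2]
          exact (RP K V).mul_mem ((RP K V).inv_mem (hSRP hs)) (IN_le_RP (hAI hg))
        have h2 : ∀ X Y : R K V, X * Y = Y * X := by
          intro X Y
          apply st.injective
          rw [hstm X Y, ← h1.2 Y X]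
        have h3 : finrank K (R K V) ≤ 1 := by
          apply finrank_le_one (1 : R K V)
          intro X
          obtain ⟨c, hc⟩ := exists_scalar_of_central X (h2 X)
          exact ⟨c, hc.symm⟩
        rw [Module.finrank_linearMap] at h3
        nlinarith
    refine Or.inr (Or.inr (Or.inr (Or.inr (Or.inr ⟨A, r, a, hr, ha, hfr, hAS2, hAI, hcard, hAr, hab,
      hspan, fun g hg => hnorm g (hSS' hg), ?_⟩))))
    intro B hB hi
    apply hmin B hB
    intro g hg f hf
    obtain ⟨s, hs, rfl | rfl⟩ := hdec g hg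
    · exact hi _ hs f hf
    · have h1 : s * st * f * (s * st)⁻¹ = s * f * s⁻¹ := by
        rw [mul_inv_rev, mul_assoc s st f, hcm f (hAS2 (hB hf))]
        simp only [mul_assoc, mul_inv_cancel_left]
      rw [h1]
      exact hi s hs f hf

end Cfsg.Agent.H886.FC
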