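import Cfsg.Agent.H886.FC.Class

/-!
# S5764: the classification `StmtBClass` (task B-CL)

The adjoint `st` is an element of `RA` commuting with `RB b`; apply `StmtClass` to `S × ⟨st⟩`.
-/

set_option autoImplicit false

universe u v

namespace Cfsg.Agent.H886.FC

open Module Cfsg.Agent.H198.FC

section

variable {K : Type u} [Field K] {V : Type v} [AddCommGroup V] [Module K V] (b : Cl K V)

theorem adj_symm {X Y : R K V} (h : b.Adj X Y) : b.Adj Y X := by
  intro v w
  rcases b.typ with ⟨_, ht⟩ | ⟨_, ht⟩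
  · rw [ht (w := Y v) (v := w), ← h, ht (w := X w) (v := v), b.invol]
  · have hs : ∀ v w, b.B v w = - b.B w v := by
      intro v w
      have h1 := ht (v + w)
      rw [b.add_left, b.add_right, b.add_right, ht, ht, zero_add, add_zero] at h1
      exact eq_neg_of_add_eq_zero_left h1
    rw [hs, ← h, hs, neg_neg]

theorem nondeg_right {w : V} (h : ∀ v, b.B v w = 0) : w = 0 := by
  apply b.nondeg
  intro v
  rcases b.typ with ⟨_, ht⟩ | ⟨_, ht⟩
  · rw [ht v w, h, map_zero]
  · have h1 := ht (v + w)
    rw [b.add_left, b.add_right, b.add_right, ht, ht, h, zero_add, add_zero, zero_add] at h1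
    exact h1

theorem B_zero_left (w : V) : b.B 0 w = 0 := by
  have := b.smul_left 0 0 w
  rwa [zero_smul, zero_mul] at this

theorem B_zero_right (v : V) : b.B v 0 = 0 := by
  have := b.smul_right 0 v 0
  rwa [zero_smul, map_zero, zero_mul] at this

theorem B_sub_right (v w w' : V) : b.B v (w - w') = b.B v w - b.B v w' := by
  have h1 : w = (w - w') + w' := by abel
  have h2 := b.add_right v (w - w') w'
  rw [← h1] at h2
  rw [h2, add_sub_cancel_right]

/-- the functional `B(·, w)` -/
def fn (w : V) : Module.Dual K V where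
  toFun v := b.B v w
  map_add' v v' := b.add_left v v' w
  map_smul' a v := by rw [b.smul_left]; rfl

theorem fn_surj [Finite K] [FiniteDimensional K V] : Function.Surjective (fn b) := by
  have : Finite V := Module.finite_of_finite K
  have hinj : Function.Injective (fn b) := by
    intro w w' h
    rw [← sub_eq_zero]
    apply nondeg_right b
    intro v
    rw [B_sub_right, sub_eq_zero]
    exact LinearMap.congr_fun h v
  have : Finite (Module.Dual K V) := Module.finite_of_finite K
  have hcard : Nat.card V = Nat.card (Module.Dual K V) := by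
    rw [Module.natCard_eq_pow_finrank (K := K) (V := V),
      Module.natCard_eq_pow_finrank (K := K) (V := Module.Dual K V), Subspace.dual_finrank_eq]
  exact ((Nat.bijective_iff_injective_and_card (fn b)).2 ⟨hinj, hcard⟩).2

theorem exists_adj [Finite K] [FiniteDimensional K V] (X : R K V) : ∃ Y : R K V, b.Adj X Y := by
  have h : ∀ w, ∃ w', ∀ v, b.B (X v) w = b.B v w' := by
    intro w
    obtain ⟨w', hw'⟩ := fn_surj b ((fn b w) ∘ₗ X)
    exact ⟨w', fun v => (LinearMap.congr_fun hw' v).symm⟩
  choose Y hY using h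
  have huniq : ∀ w w', (∀ v, b.B v w = b.B v w') → w = w' := by
    intro w w' h
    rw [← sub_eq_zero]
    apply nondeg_right b
    intro v
    rw [B_sub_right, sub_eq_zero, h]
  refine ⟨{ toFun := Y, map_add' := fun w w' => ?_, map_smul' := fun c w => ?_ }, fun v w => hY w v⟩
  · apply huniq
    intro v
    rw [← hY, b.add_right, b.add_right, ← hY, ← hY]
  · apply huniq
    intro v
    rw [← hY, b.smul_right, RingHom.id_apply, b.smul_right, ← hY]

theorem adj_unique {X Y Y' : R K V} (h : b.Adj X Y) (h' : b.Adj X Y') : Y = Y' := by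
  ext w
  rw [← sub_eq_zero]
  apply nondeg_right b
  intro v
  rw [B_sub_right, ← h, ← h', sub_self]

theorem adj_add {X Y X' Y' : R K V} (h : b.Adj X Y) (h' : b.Adj X' Y') : b.Adj (X + X') (Y + Y') := by
  intro v w
  rw [LinearMap.add_apply, LinearMap.add_apply, b.add_left, b.add_right, h, h']

theorem adj_mul {X Y X' Y' : R K V} (h : b.Adj X Y) (h' : b.Adj X' Y') : b.Adj (X * X') (Y' * Y) := by
  intro v w
  rw [Module.End.mul_apply, Module.End.mul_apply, h, h']

/-- the adjoint -/
theorem exists_st [Finite K] [FiniteDimensional K V] : ∃ st : Equiv.Perm (R K V),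
    (∀ X, b.Adj X (st X)) ∧ st * st = 1 ∧ st ∈ RA K V ∧ (∀ X Y, st (X * Y) = st Y * st X) := by
  choose s hs using exists_adj b
  have hss : ∀ X, s (s X) = X := fun X => adj_unique b (hs (s X)) (adj_symm b (hs X))
  let st : Equiv.Perm (R K V) := ⟨s, s, hss, hss⟩
  have hmul : ∀ X Y, st (X * Y) = st Y * st X := fun X Y =>
    adj_unique b (hs (X * Y)) (adj_mul b (hs X) (hs Y))
  refine ⟨st, hs, Equiv.ext hss, ⟨fun X Y => ?_, Or.inr hmul⟩, hmul⟩
  exact adj_unique b (hs (X + Y)) (adj_add b (hs X) (hs Y))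

/-- the group `S × ⟨t⟩` -/
theorem exists_ext {G : Type*} [Group G] (S : Subgroup G) (hsol : Group.IsSolvable S) (t : G)
    (ht : t * t = 1) (hc : ∀ s ∈ S, t * s = s * t) : ∃ S' : Subgroup G, Group.IsSolvable S' ∧
      S ≤ S' ∧ t ∈ S' ∧ ∀ g ∈ S', ∃ s ∈ S, g = s ∨ g = s * t := by
  let φ : S × Subgroup.zpowers t →* G :=
    S.subtype.noncommCoprod (Subgroup.zpowers t).subtype (by
      rintro ⟨s, hs⟩ ⟨z, hz⟩
      obtain ⟨k, rfl⟩ := hz
      show Commute s (t ^ k)
      exact ((show Commute t s from hc s hs).symm).zpow_right k)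
  have hφ : ∀ x, φ x = (x.1 : G) * (x.2 : G) := fun x => rfl
  have h1 : Group.IsSolvable (Subgroup.zpowers t) := by
    apply Group.isSolvable_of_comm
    rintro ⟨_, ⟨i, rfl⟩⟩ ⟨_, ⟨j, rfl⟩⟩
    apply Subtype.ext
    show t ^ i * t ^ j = t ^ j * t ^ i
    rw [← zpow_add, ← zpow_add, add_comm]
  have h2 : Group.IsSolvable (S × Subgroup.zpowers t) := inferInstance
  refine ⟨φ.range, Group.isSolvable_of_surjective φ.rangeRestrict_surjective, ?_, ?_, ?_⟩
  · intro s hs
    exact ⟨(⟨s, hs⟩, 1), by rw [hφ]; simp⟩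
  · exact ⟨(1, ⟨t, Subgroup.mem_zpowers t⟩), by rw [hφ]; simp⟩
  · rintro _ ⟨⟨⟨s, hs⟩, ⟨z, hz⟩⟩, rfl⟩
    refine ⟨s, hs, ?_⟩
    rw [hφ]
    show s * z = s ∨ s * z = s * t
    obtain ⟨k, rfl⟩ := hz
    rcases Int.even_or_odd' k with ⟨j, rfl | rfl⟩
    · left
      have : t ^ (2 : ℤ) = 1 := by
        rw [show (2 : ℤ) = ((2 : ℕ) : ℤ) by rfl, zpow_natCast, pow_two, ht]
      show s * t ^ (2 * j) = s
      rw [zpow_mul, this, one_zpow, mul_one]
    · right
      show s * t ^ (2 * j + 1) = s * t
      have : t ^ (2 : ℤ) = 1 := by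
        rw [show (2 : ℤ) = ((2 : ℕ) : ℤ) by rfl, zpow_natCast, pow_two, ht]
      rw [zpow_add, zpow_mul, this, one_zpow, one_mul, zpow_one]

/-- the orthogonal complement -/
def perp (W : Submodule K V) : Submodule K V where
  carrier := {v | ∀ w ∈ W, b.B v w = 0}
  add_mem' := by
    intro v v' hv hv' w hw
    rw [b.add_left, hv w hw, hv' w hw, add_zero]
  zero_mem' := fun w _ => B_zero_left b w
  smul_mem' := by
    intro c v hv w hw
    rw [b.smul_left, hv w hw, mul_zero]

theorem mem_perp {W : Submodule K V} {v : V} : v ∈ perp b W ↔ ∀ w ∈ W, b.B v w = 0 := Iff.rfl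

variable {b}

theorem rb_st {st : Equiv.Perm (R K V)} (hst : ∀ X, b.Adj X (st X)) {f : Equiv.Perm (R K V)}
    (hf : f ∈ RB b) (X : R K V) : st (f X) = f (st X) :=
  adj_unique b (hst (f X)) ((hf.2 X (st X)).1 (hst X))

/-- the orthogonal complement of a stable subspace is stable -/
theorem stb_perp {st : Equiv.Perm (R K V)} (hst : ∀ X, b.Adj X (st X)) {f : Equiv.Perm (R K V)}
    (hf : f ∈ RB b) {W : Submodule K V} (h : Stb f⁻¹ W) : Stb f (perp b W) := by
  intro X hX v w hw
  -- `st X` kills `W`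
  have h1 : ∀ w ∈ W, st X w = 0 := by
    intro w hw
    apply nondeg_right b
    intro v
    rw [← hst X]
    exact hX v w hw
  -- an endomorphism with image in `W` whose image contains `w`
  have h2 : ∀ Z : R K V, (∀ v, Z v ∈ W) → st (f X) * Z = 0 := by
    intro Z hZ
    have h3 : st X * f⁻¹ Z = 0 := by
      ext v
      exact h1 _ (h Z hZ v)
    have h4 : f (st X * f⁻¹ Z) = st (f X) * Z := by
      rw [hf.1.2, rb_st hst hf]
      congr 1
      exact f.apply_symm_apply Z
    rw [← h4, h3]
    exact ra_zero (RP_le_RA hf.1)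
  rw [hst (f X)]
  by_cases hv : v = 0
  · rw [hv]
    exact B_zero_left b _
  obtain ⟨φ, hφ⟩ : ∃ φ : V →ₗ[K] K, φ v ≠ 0 := by
    by_contra hcon
    push Not at hcon
    exact hv ((Module.forall_dual_apply_eq_zero_iff K v).1 hcon)
  let Z : R K V := φ.smulRight w
  have hZ : ∀ u, Z u ∈ W := fun u => W.smul_mem _ hw
  have h5 := LinearMap.congr_fun (h2 Z hZ) v
  have h6 : φ v • st (f X) w = 0 := by
    rw [← map_smul]
    exact h5
  rw [(smul_eq_zero.1 h6).resolve_left hφ]
  exact B_zero_right b v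

theorem stb_inf {f : Equiv.Perm (R K V)} {W W' : Submodule K V} (h : Stb f W) (h' : Stb f W') :
    Stb f (W ⊓ W') := fun X hX v =>
  ⟨h X (fun v => (hX v).1) v, h' X (fun v => (hX v).2) v⟩

/-- reducible: isotropic or non-degenerate -/
theorem nd_of_red {st : Equiv.Perm (R K V)} (hst : ∀ X, b.Adj X (st X))
    {S : Subgroup (Equiv.Perm (R K V))} (hS : S ≤ RB b)
    (hTI : ∀ W : Submodule K V, b.TI W → (∀ f ∈ S, Stb f W) → W = ⊥) {W : Submodule K V}
    (hW : ∀ f ∈ S, Stb f W) : b.ND W := by
  have h1 : W ⊓ perp b W = ⊥ := by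
    apply hTI
    · intro v hv w hw
      exact hv.2 w hw.1
    · intro f hf
      exact stb_inf (hW f hf) (stb_perp hst (hS hf) (hW f⁻¹ (S.inv_mem hf)))
  intro v hv h
  have : v ∈ W ⊓ perp b W := ⟨hv, h⟩
  rwa [h1, Submodule.mem_bot] at this

/-- `range (e + e')` for orthogonal idempotents -/
theorem rank_add [FiniteDimensional K V] {e e' : R K V} (he : e * e = e) (he' : e' * e' = e')
    (h : e * e' = 0) (h' : e' * e = 0) : finrank K (LinearMap.range (e + e')) =
      finrank K (LinearMap.range e) + finrank K (LinearMap.range e') := by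
  have h1 : LinearMap.range (e + e') = LinearMap.range e ⊔ LinearMap.range e' := by
    apply le_antisymm
    · rintro _ ⟨v, rfl⟩
      exact Submodule.add_mem_sup ⟨v, rfl⟩ ⟨v, rfl⟩
    · apply sup_le
      · rintro _ ⟨v, rfl⟩
        refine ⟨e v, ?_⟩
        rw [← Module.End.mul_apply, add_mul, he, h', add_zero]
      · rintro _ ⟨v, rfl⟩
        refine ⟨e' v, ?_⟩
        rw [← Module.End.mul_apply, add_mul, he', h, zero_add]
  have h2 : LinearMap.range e ⊓ LinearMap.range e' = ⊥ := by
    rw [Submodule.eq_bot_iff]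
    rintro _ ⟨⟨v, rfl⟩, ⟨w, hw⟩⟩
    have h3 : e (e v) = e v := by rw [← Module.End.mul_apply, he]
    rw [← h3, ← hw, ← Module.End.mul_apply, h]
    rfl
  have h3 := Submodule.finrank_sup_add_finrank_inf_eq (LinearMap.range e) (LinearMap.range e')
  rw [h2, finrank_bot, add_zero] at h3
  rw [h1, h3]

/-- the reducible, the orthogonal and the isotropic decompositions -/
theorem c2_cases [FiniteDimensional K V] {st : Equiv.Perm (R K V)}
    (hst : ∀ X, b.Adj X (st X)) (hst2 : ∀ X, st (st X) = X)
    (hadd : ∀ X Y, st (X + Y) = st X + st Y)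
    {S : Subgroup (Equiv.Perm (R K V))} (hS : S ≤ RB b) {k d : ℕ} {e : Fin k → R K V} (hk : 2 ≤ k)
    (hd : 1 ≤ d) (he : CompleteOrthogonalIdempotents e)
    (hr : ∀ i, finrank K (LinearMap.range (e i)) = d)
    (hp : ∀ f ∈ S, ∃ π : Equiv.Perm (Fin k), ∀ i, f (e i) = e (π i))
    (hσ : ∃ σ : Equiv.Perm (Fin k), ∀ i, st (e i) = e (σ i)) :
    (∃ W : Submodule K V, W ≠ ⊥ ∧ W ≠ ⊤ ∧ ∀ f ∈ S, Stb f W) ∨
    (∃ (k d : ℕ) (e : Fin k → R K V), 2 ≤ k ∧ 1 ≤ d ∧ CompleteOrthogonalIdempotents e ∧
      (∀ i, b.Adj (e i) (e i)) ∧ (∀ i, Module.finrank K (LinearMap.range (e i)) = d) ∧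
      ∀ f ∈ S, ∃ π : Equiv.Perm (Fin k), ∀ i, f (e i) = e (π i)) ∨
    (∃ e : Fin 2 → R K V, CompleteOrthogonalIdempotents e ∧ b.Adj (e 0) (e 1) ∧
      ∀ f ∈ S, ∃ π : Equiv.Perm (Fin 2), ∀ i, f (e i) = e (π i)) := by
  classical
  obtain ⟨σ, hσ⟩ := hσ
  have heid : ∀ i, e i * e i = e i := fun i => he.idem i
  have heor : ∀ i j, i ≠ j → e i * e j = 0 := fun i j h => he.ortho h
  have he0 : ∀ i, e i ≠ 0 := by
    intro i h
    have h1 := hr i
    rw [h, LinearMap.range_zero, finrank_bot] at h1
    omega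
  have heinj : ∀ i j, e i = e j → i = j := by
    intro i j h
    by_contra hij
    have h1 := heor i j hij
    rw [← h, heid] at h1
    exact he0 i h1
  have hσσ : ∀ i, σ (σ i) = i := by
    intro i
    apply heinj
    rw [← hσ, ← hσ, hst2]
  have hcomm : ∀ f ∈ S, ∀ π : Equiv.Perm (Fin k), (∀ i, f (e i) = e (π i)) →
      ∀ i, σ (π i) = π (σ i) := by
    intro f hf π hπ i
    apply heinj
    rw [← hσ, ← hπ, ← hπ, ← hσ, rb_st hst (hS hf)]
  by_cases hall : ∀ i, σ i = i
  · right; left
    refine ⟨k, d, e, hk, hd, he, fun i => ?_, hr, hp⟩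
    have := hst (e i)
    rwa [hσ, hall] at this
  by_cases hsome : ∃ i, σ i = i
  · -- the fixed ones
    left
    push Not at hall
    obtain ⟨j, hj⟩ := hall
    obtain ⟨i, hi⟩ := hsome
    set s := ∑ l ∈ Finset.univ.filter (fun l => σ l = l), e l with hs
    have hsm : ∀ l, s * e l = if σ l = l then e l else 0 := by
      intro l
      rw [hs, Finset.sum_mul]
      split_ifs with h
      · rw [Finset.sum_eq_single l]
        · exact heid l
        · intro l' _ hl'
          exact heor _ _ hl'
        · intro h'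
          exfalso
          apply h'
          rw [Finset.mem_filter]
          exact ⟨Finset.mem_univ _, h⟩
      · apply Finset.sum_eq_zero
        intro l' hl'
        apply heor
        rintro rfl
        exact h (Finset.mem_filter.1 hl').2
    have hms : ∀ l, σ l ≠ l → e l * s = 0 := by
      intro l hl
      rw [hs, Finset.mul_sum]
      apply Finset.sum_eq_zero
      intro l' hl'
      apply heor
      rintro rfl
      exact hl (Finset.mem_filter.1 hl').2
    have hss : s * s = s := by
      conv_lhs => rw [hs, Finset.mul_sum]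
      refine Finset.sum_congr rfl fun l hl => ?_
      rw [hsm, if_pos (Finset.mem_filter.1 hl).2]
    refine ⟨LinearMap.range s, ?_, ?_, ?_⟩
    · intro h
      rw [LinearMap.range_eq_bot] at h
      have h1 := hsm i
      rw [if_pos hi, h, zero_mul] at h1
      exact he0 i h1.symm
    · intro h
      apply he0 j
      ext v
      have h3 : v ∈ LinearMap.range s := by rw [h]; trivial
      obtain ⟨w, rfl⟩ := h3
      rw [← Module.End.mul_apply, hms j hj]
      rfl
    · intro f hf
      apply stb_of_idem (hS hf).1 hss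
      obtain ⟨π, hπ⟩ := hp f hf
      rw [hs, ra_sum (RP_le_RA (hS hf).1)]
      refine Finset.sum_nbij' (fun l => π l) (fun l => π.symm l) ?_ ?_ ?_ ?_ ?_
      · intro l hl
        rw [Finset.mem_filter] at hl ⊢
        exact ⟨Finset.mem_univ _, by rw [hcomm f hf π hπ, hl.2]⟩
      · intro l hl
        rw [Finset.mem_filter] at hl ⊢
        refine ⟨Finset.mem_univ _, ?_⟩
        apply π.injective
        rw [← hcomm f hf π hπ, Equiv.apply_symm_apply, hl.2]
      · intro l _
        exact π.symm_apply_apply l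
      · intro l _
        exact π.apply_symm_apply l
      · intro l _
        exact hπ l
  -- no fixed points
  push Not at hsome
  by_cases hk2 : k = 2
  · subst hk2
    right; right
    refine ⟨e, he, ?_, hp⟩
    have h1 : σ 0 = 1 := by
      have h2 := hsome 0
      have h3 : σ 0 = 0 ∨ σ 0 = 1 := by
        generalize σ 0 = x
        fin_cases x <;> simp
      rcases h3 with h3 | h3
      · exact absurd h3 h2
      · exact h3
    have := hst (e 0)
    rwa [hσ, h1] at this
  · right; left
    let g : Fin k → R K V := fun i => e i + e (σ i)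
    have hg : ∀ i, g i = e i + e (σ i) := fun i => rfl
    let T := Finset.univ.image g
    have hT : ∀ x, x ∈ T ↔ ∃ i, g i = x := by
      intro x
      simp [T]
    have hge : ∀ i j, g i * e j = if j = i ∨ j = σ i then e j else 0 := by
      intro i j
      rw [hg, add_mul]
      split_ifs with h
      · rcases h with rfl | rfl
        · rw [heid, heor _ _ (hsome j), add_zero]
        · rw [heid, heor _ _ (hsome i).symm, zero_add]
      · push Not at h
        rw [heor _ _ (Ne.symm h.1), heor _ _ (Ne.symm h.2), add_zero]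
    have hgσ : ∀ i, g (σ i) = g i := by
      intro i
      rw [hg, hg, hσσ, add_comm]
    have hgeq : ∀ i j, g i = g j → j = i ∨ j = σ i := by
      intro i j h
      by_contra hcon
      have h1 := hge i j
      rw [if_neg hcon, h, hge, if_pos (Or.inl rfl)] at h1
      exact he0 j h1
    have hgg : ∀ i, g i * g i = g i := by
      intro i
      conv_lhs => rw [hg i, mul_add]
      rw [← hg i, hge, hge, if_pos (Or.inl rfl), if_pos (Or.inr rfl)]
    have hgor : ∀ i j, g i ≠ g j → g i * g j = 0 := by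
      intro i j h
      have h1 : ¬ (j = i ∨ j = σ i) := by
        rintro (rfl | rfl)
        · exact h rfl
        · exact h (hgσ i).symm
      have h2 : ¬ (σ j = i ∨ σ j = σ i) := by
        rintro (h2 | h2)
        · apply h
          rw [← h2, hgσ]
        · exact h1 (Or.inl (σ.injective h2))
      conv_lhs => rw [hg j, mul_add]
      rw [hge, hge, if_neg h1, if_neg h2, add_zero]
    let k' := T.card
    let ε := T.equivFin
    let e' : Fin k' → R K V := fun i => (ε.symm i : R K V)
    have he'T : ∀ i, e' i ∈ T := fun i => (ε.symm i).2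
    have he'inj : ∀ i j, e' i = e' j → i = j := fun i j h => ε.symm.injective (Subtype.ext h)
    refine ⟨k', d + d, e', ?_, by omega, ?_, ?_, ?_, ?_⟩
    · -- at least two pairs
      by_contra hcon
      have h1 : T.card ≤ 1 := by
        have : ¬ 2 ≤ T.card := hcon
        omega
      have h2 : ∀ i j, g i = g j := fun i j =>
        Finset.card_le_one.1 h1 _ ((hT _).2 ⟨i, rfl⟩) _ ((hT _).2 ⟨j, rfl⟩)
      have h3 : (Finset.univ : Finset (Fin k)) ⊆ {⟨0, by omega⟩, σ ⟨0, by omega⟩} := by
        intro j _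
        rw [Finset.mem_insert, Finset.mem_singleton]
        exact hgeq _ j (h2 _ _)
      have h4 := Finset.card_le_card h3
      rw [Finset.card_univ, Fintype.card_fin] at h4
      have h5 := Finset.card_le_two (a := (⟨0, by omega⟩ : Fin k)) (b := σ ⟨0, by omega⟩)
      omega
    · rw [CompleteOrthogonalIdempotents.iff_ortho_complete]
      refine ⟨fun i j hij => ?_, ?_⟩
      · obtain ⟨i', hi'⟩ := (hT _).1 (he'T i)
        obtain ⟨j', hj'⟩ := (hT _).1 (he'T j)
        show e' i * e' j = 0
        rw [← hi', ← hj']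
        apply hgor
        intro h
        apply hij
        apply he'inj
        rw [← hi', ← hj', h]
      · have h1 : ∑ i, e' i = ∑ x ∈ T, x := by
          rw [← Finset.sum_coe_sort T]
          exact Equiv.sum_comp ε.symm (fun x : T => (x : R K V))
        rw [h1]
        have h2 : ∀ j, (∑ x ∈ T, x) * e j = e j := by
          intro j
          rw [Finset.sum_mul, Finset.sum_eq_single (g j)]
          · rw [hge, if_pos (Or.inl rfl)]
          · intro x hx hxj
            obtain ⟨i, rfl⟩ := (hT x).1 hx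
            rw [hge, if_neg]
            rintro (rfl | rfl)
            · exact hxj rfl
            · exact hxj (hgσ i).symm
          · intro h
            exact absurd ((hT _).2 ⟨j, rfl⟩) h
        calc (∑ x ∈ T, x) = (∑ x ∈ T, x) * ∑ j, e j := by rw [he.complete, mul_one]
          _ = ∑ j, e j := by
              rw [Finset.mul_sum]
              exact Finset.sum_congr rfl fun j _ => h2 j
          _ = 1 := he.complete
    · intro i
      obtain ⟨i', hi'⟩ := (hT _).1 (he'T i)
      rw [← hi']
      have h1 := hst (g i')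
      have h2 : st (g i') = g i' := by
        rw [hg, hadd, hσ, hσ, hσσ, add_comm]
      rwa [h2] at h1
    · intro i
      obtain ⟨i', hi'⟩ := (hT _).1 (he'T i)
      rw [← hi', hg, rank_add (heid _) (heid _) (heor _ _ (hsome i').symm) (heor _ _ (hsome i')),
        hr, hr]
    · intro f hf
      have hfT : ∀ f ∈ S, ∀ x ∈ T, f x ∈ T := by
        intro f hf x hx
        obtain ⟨i, rfl⟩ := (hT x).1 hx
        obtain ⟨π, hπ⟩ := hp f hf
        rw [hT]
        refine ⟨π i, ?_⟩
        rw [hg, hg, ra_add (RP_le_RA (hS hf).1), hπ, hπ, hcomm f hf π hπ]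
      let F : T ≃ T :=
        { toFun := fun x => ⟨f x, hfT f hf x x.2⟩
          invFun := fun x => ⟨f⁻¹ (x : R K V), hfT f⁻¹ (S.inv_mem hf) x x.2⟩
          left_inv := fun x => Subtype.ext (f.symm_apply_apply _)
          right_inv := fun x => Subtype.ext (f.apply_symm_apply _) }
      refine ⟨(ε.symm.trans F).trans ε, fun i => ?_⟩
      show f (ε.symm i : R K V) = (ε.symm (ε (F (ε.symm i))) : R K V)
      rw [Equiv.symm_apply_apply]
      rfl

end

/-- **B-CL** -/
theorem stmtBClass : StmtBClass.{u, v} := by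
  intro K _ _ V _ _ _ b hbig S hS hsol hne
  have hn3 : 3 ≤ finrank K V := by
    rcases hbig with ⟨_, h, _⟩ | ⟨_, h, _⟩ <;> omega
  have : Nontrivial V := Module.nontrivial_of_finrank_pos (R := K) (by omega)
  obtain ⟨st, hst, hst2, hstRA, hstm⟩ := exists_st b
  have hst2' : ∀ X, st (st X) = X := fun X => Equiv.congr_fun hst2 X
  have hcm : ∀ s ∈ S, st * s = s * st := by
    intro s hs
    apply Equiv.ext
    intro X
    exact rb_st hst (hS hs) X
  obtain ⟨S', hsol', hSS', hstS', hdec⟩ := exists_ext S hsol st hst2 hcm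
  have hSRP : S ≤ RP K V := fun f hf => (hS hf).1
  have hS'RA : S' ≤ RA K V := by
    intro g hg
    obtain ⟨s, hs, rfl | rfl⟩ := hdec g hg
    · exact RP_le_RA (hSRP hs)
    · exact (RA K V).mul_mem (RP_le_RA (hSRP hs)) hstRA
  by_cases hTI : ∃ W : Submodule K V, W ≠ ⊥ ∧ b.TI W ∧ ∀ f ∈ S, Stb f W
  · exact Or.inl hTI
  right
  have hTI' : ∀ W : Submodule K V, b.TI W → (∀ f ∈ S, Stb f W) → W = ⊥ := by
    intro W h1 h2
    by_contra h3
    exact hTI ⟨W, h3, h1, h2⟩
  refine ⟨hTI', ?_⟩
  have hred : ∀ W : Submodule K V, W ≠ ⊥ → W ≠ ⊤ → (∀ f ∈ S, Stb f W) →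
      (∃ W : Submodule K V, W ≠ ⊥ ∧ W ≠ ⊤ ∧ b.ND W ∧ ∀ f ∈ S, Stb f W) := fun W h1 h2 h3 =>
    ⟨W, h1, h2, nd_of_red hst hS hTI' h3, h3⟩
  rcases stmtClass K V S' (by omega) hS'RA (fun h => by omega) hsol' (by
      intro h
      apply hne
      rw [eq_bot_iff, ← h]
      exact inf_le_inf_right _ hSS') with h | h | h | h | h
  · obtain ⟨W, h1, h2, h3⟩ := h
    exact Or.inl (hred W h1 h2 fun f hf => h3 f (hSS' hf) (hSRP hf))
  · obtain ⟨k, d, e, hk, hd, he, hr, hp⟩ := h
    rcases c2_cases hst hst2' (fun X Y => ra_add hstRA X Y) hS hk hd he hr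
        (fun f hf => hp f (hSS' hf)) (hp st hstS') with h | h | h
    · obtain ⟨W, h1, h2, h3⟩ := h
      exact Or.inl (hred W h1 h2 h3)
    · exact Or.inr (Or.inl h)
    · exact Or.inr (Or.inr (Or.inl h))
  · obtain ⟨E, hE, hEp, hEf⟩ := h
    exact Or.inr (Or.inr (Or.inr (Or.inl ⟨E, hE, hEp, fun X hX => ⟨st X, hEf st hstS' X hX, hst X⟩,
      fun f hf => hEf f (hSS' hf)⟩)))
  · obtain ⟨u', y, Φ, hu, hy, h⟩ := h
    refine Or.inr (Or.inr (Or.inr (Or.inr (Or.inl ⟨u', y, Φ, hu, hy, fun B => ?_,
      fun f hf => h f (hSS' hf)⟩))))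
    obtain ⟨B', hB'⟩ := h st hstS' B
    refine ⟨B', ?_⟩
    rw [← hB']
    exact hst _
  · obtain ⟨A, r, a, hr, ha, hfr, hAS, hAI, hcard, hAr, hab, hspan, hnorm, hmin⟩ := h
    have hAS2 : A ≤ S := by
      intro g hg
      obtain ⟨s, hs, h | h⟩ := hdec g (hAS hg)
      · rw [h]; exact hs
      · exfalso
        -- `st` would be a ring automorphism
        have h1 : st ∈ RP K V := by
          have h2 : st = s⁻¹ * g := by rw [h, inv_mul_cancel_left]
          rw [h2]
          exact (RP K V).mul_mem ((RP K V).inv_mem (hSRP hs)) (IN_le_RP (hAI hg))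
        have h2 : ∀ X Y : R K V, X * Y = Y * X := by
          intro X Y
          apply st.injective
          rw [hstm X Y, ← h1.2 Y X]
        have h3 : finrank K (R K V) ≤ 1 := by
          apply finrank_le_one (1 : R K V)
          intro X
          obtain ⟨c, hc⟩ := exists_scalar_of_central X (h2 X)
          exact ⟨c, hc.symm⟩
        rw [Module.finrank_linearMap] at h3
        nlinarith
    refine Or.inr (Or.inr (Or.inr (Or.inr (Or.inr ⟨A, r, a, hr, ha, hfr, hAS2, hAI, hcard, hAr, hab,
      hspan, fun g hg => hnorm g (hSS' hg), ?_⟩))))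
    intro B hB hi
    apply hmin B hB
    intro g hg f hf
    obtain ⟨s, hs, rfl | rfl⟩ := hdec g hg
    · exact hi _ hs f hf
    · have h1 : s * st * f * (s * st)⁻¹ = s * f * s⁻¹ := by
        rw [mul_inv_rev, mul_assoc s st f, hcm f (hAS2 (hB hf))]
        simp only [mul_assoc, mul_inv_cancel_left]
      rw [h1]
      exact hi s hs f hf

end Cfsg.Agent.H886.FC
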