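import Cfsg.Agent.H198.FC.DefsB

/-!
# S5764, classification (tasks L-CL, B-CL): ring automorphisms, lifts, the algebra `K[A^]`
-/

set_option autoImplicit false

universe u v

namespace Cfsg.Agent.H886.FC

open Module Cfsg.Agent.H198.FC

section

variable {K : Type u} [Field K] {V : Type v} [AddCommGroup V] [Module K V]

/-! ### elements of `RA` -/

theorem ra_add {f : Equiv.Perm (R K V)} (hf : f ∈ RA K V) (X Y : R K V) : f (X + Y) = f X + f Y :=
  hf.1 X Y

theorem ra_zero {f : Equiv.Perm (R K V)} (hf : f ∈ RA K V) : f 0 = 0 := by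
  have h := ra_add hf 0 0
  rw [add_zero] at h
  exact left_eq_add.1 h

/-- the additive equivalence of an element of `RA` -/
def fA (f : Equiv.Perm (R K V)) (hf : f ∈ RA K V) : R K V ≃+ R K V :=
  { f with map_add' := hf.1 }

theorem fA_apply (f : Equiv.Perm (R K V)) (hf : f ∈ RA K V) (X : R K V) : fA f hf X = f X := rfl

theorem ra_neg {f : Equiv.Perm (R K V)} (hf : f ∈ RA K V) (X : R K V) : f (-X) = -f X :=
  map_neg (fA f hf) X

theorem ra_sub {f : Equiv.Perm (R K V)} (hf : f ∈ RA K V) (X Y : R K V) : f (X - Y) = f X - f Y :=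
  map_sub (fA f hf) X Y

theorem ra_sum {f : Equiv.Perm (R K V)} (hf : f ∈ RA K V) {ι : Type*} (s : Finset ι)
    (g : ι → R K V) : f (∑ i ∈ s, g i) = ∑ i ∈ s, f (g i) :=
  map_sum (fA f hf) g s

theorem ra_one {f : Equiv.Perm (R K V)} (hf : f ∈ RA K V) : f 1 = 1 := by
  rcases hf.2 with h | h
  · have h1 := h (f.symm 1) 1
    rw [mul_one, Equiv.apply_symm_apply, one_mul] at h1
    exact h1.symm
  · have h1 := h 1 (f.symm 1)
    rw [one_mul, Equiv.apply_symm_apply, one_mul] at h1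
    exact h1.symm

theorem ra_pow {f : Equiv.Perm (R K V)} (hf : f ∈ RA K V) (X : R K V) (k : ℕ) :
    f (X ^ k) = f X ^ k := by
  induction k with
  | zero => rw [pow_zero, pow_zero, ra_one hf]
  | succ k ih =>
    rcases hf.2 with h | h
    · rw [pow_succ, h, ih, pow_succ]
    · rw [pow_succ, h, ih, pow_succ']

/-- if `X` commutes with `Y` then `f (X Y) = f X f Y` -/
theorem ra_mul_of_comm {f : Equiv.Perm (R K V)} (hf : f ∈ RA K V) {X Y : R K V}
    (h : X * Y = Y * X) : f (X * Y) = f X * f Y := by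
  rcases hf.2 with h' | h'
  · exact h' X Y
  · rw [h, h']

theorem ra_comm {f : Equiv.Perm (R K V)} (hf : f ∈ RA K V) {X Y : R K V}
    (h : X * Y = Y * X) : f X * f Y = f Y * f X := by
  rw [← ra_mul_of_comm hf h, ← ra_mul_of_comm hf h.symm, h]

/-- central elements of `End V` are scalars -/
theorem exists_scalar_of_central (X : R K V) (h : ∀ Y : R K V, X * Y = Y * X) :
    ∃ c : K, X = c • (1 : R K V) := by
  have h1 : X ∈ Subalgebra.center K (R K V) := by
    rw [Subalgebra.mem_center_iff]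
    intro Y
    exact (h Y).symm
  rw [Algebra.IsCentral.center_eq_bot, Algebra.mem_bot] at h1
  obtain ⟨c, hc⟩ := h1
  exact ⟨c, by rw [← hc, Algebra.algebraMap_eq_smul_one]⟩

theorem ra_scalar {f : Equiv.Perm (R K V)} (hf : f ∈ RA K V) (c : K) :
    ∃ d : K, f (c • (1 : R K V)) = d • (1 : R K V) := by
  apply exists_scalar_of_central
  intro Y
  have h : (c • (1 : R K V)) * f.symm Y = f.symm Y * (c • (1 : R K V)) := by
    rw [smul_mul_assoc, one_mul, mul_smul_comm, mul_one]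
  have := ra_comm hf h
  rwa [Equiv.apply_symm_apply] at this

theorem ra_smul {f : Equiv.Perm (R K V)} (hf : f ∈ RA K V) (c : K) :
    ∃ d : K, ∀ X : R K V, f (c • X) = d • f X := by
  obtain ⟨d, hd⟩ := ra_scalar hf c
  refine ⟨d, fun X => ?_⟩
  have h : (c • (1 : R K V)) * X = X * (c • (1 : R K V)) := by
    rw [smul_mul_assoc, one_mul, mul_smul_comm, mul_one]
  have h1 := ra_mul_of_comm hf h
  rw [smul_mul_assoc, one_mul, hd, smul_mul_assoc, one_mul] at h1
  exact h1

/-- the image of a unit -/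
def fU (f : Equiv.Perm (R K V)) (hf : f ∈ RA K V) (x : (R K V)ˣ) : (R K V)ˣ where
  val := f x
  inv := f (x⁻¹ : (R K V)ˣ)
  val_inv := by
    rw [← ra_mul_of_comm hf (by rw [x.mul_inv, x.inv_mul]), x.mul_inv, ra_one hf]
  inv_val := by
    rw [← ra_mul_of_comm hf (by rw [x.mul_inv, x.inv_mul]), x.inv_mul, ra_one hf]

@[simp] theorem fU_val (f : Equiv.Perm (R K V)) (hf : f ∈ RA K V) (x : (R K V)ˣ) :
    ((fU f hf x : (R K V)ˣ) : R K V) = f x := rfl

theorem conj_cj_rp {f : Equiv.Perm (R K V)} (hf : f ∈ RA K V) (hf' : ∀ X Y, f (X * Y) = f X * f Y)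
    (x : (R K V)ˣ) : f * cj K V x * f⁻¹ = cj K V (fU f hf x) := by
  apply Equiv.ext
  intro Y
  show f (x * (f⁻¹ Y) * (x⁻¹ : (R K V)ˣ)) = f x * Y * f (x⁻¹ : (R K V)ˣ)
  rw [hf', hf']
  congr 2
  exact f.apply_symm_apply Y

theorem conj_cj_anti {f : Equiv.Perm (R K V)} (hf : f ∈ RA K V)
    (hf' : ∀ X Y, f (X * Y) = f Y * f X) (x : (R K V)ˣ) :
    f * cj K V x * f⁻¹ = (cj K V (fU f hf x))⁻¹ := by
  rw [← map_inv]
  apply Equiv.ext
  intro Y
  show f (x * (f⁻¹ Y) * (x⁻¹ : (R K V)ˣ)) = f (x⁻¹ : (R K V)ˣ) * Y * f x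
  rw [hf', hf', mul_assoc]
  congr 2
  exact f.apply_symm_apply Y

/-- an element of `RA` normalizing `A` maps lifts to lifts -/
theorem fU_mem {A : Subgroup (Equiv.Perm (R K V))} {f : Equiv.Perm (R K V)} (hf : f ∈ RA K V)
    (hA : ∀ a ∈ A, f * a * f⁻¹ ∈ A) {x : (R K V)ˣ} (hx : cj K V x ∈ A) :
    cj K V (fU f hf x) ∈ A := by
  rcases hf.2 with h | h
  · rw [← conj_cj_rp hf h]
    exact hA _ hx
  · have := hA _ hx
    rw [conj_cj_anti hf h] at this
    exact inv_mem_iff.1 this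

theorem cj_eq_one {x : (R K V)ˣ} (h : cj K V x = 1) : ∃ c : K, (x : R K V) = c • (1 : R K V) := by
  apply exists_scalar_of_central
  intro Y
  have h1 : (x : R K V) * Y * (x⁻¹ : (R K V)ˣ) = Y := by
    rw [← cj_apply, h]
    rfl
  calc (x : R K V) * Y = (x : R K V) * Y * (x⁻¹ : (R K V)ˣ) * x := by
        rw [mul_assoc _ _ (x : R K V), x.inv_mul, mul_one]
    _ = Y * x := by rw [h1]

theorem cj_scalar {x : (R K V)ˣ} {c : K} (h : (x : R K V) = c • (1 : R K V)) : cj K V x = 1 := by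
  apply Equiv.ext
  intro Y
  rw [cj_apply, h, smul_mul_assoc, one_mul, ← mul_one (c • Y), mul_assoc, one_mul]
  have : c • Y = Y * x := by rw [h, mul_smul_comm, mul_one]
  rw [this, mul_assoc, x.mul_inv, mul_one]
  rfl

/-! ### the algebra of the lifts -/

/-- the lifts of `A` -/
def Lf (A : Subgroup (Equiv.Perm (R K V))) : Set (R K V) :=
  {X | ∃ x : (R K V)ˣ, (x : R K V) = X ∧ cj K V x ∈ A}

/-- the algebra generated by the lifts of `A` -/
def DA (A : Subgroup (Equiv.Perm (R K V))) : Subalgebra K (R K V) := Algebra.adjoin K (Lf A)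

theorem lf_le_DA {A : Subgroup (Equiv.Perm (R K V))} {X : R K V} (h : X ∈ Lf A) : X ∈ DA A :=
  Algebra.subset_adjoin h

theorem map_lf {A : Subgroup (Equiv.Perm (R K V))} {f : Equiv.Perm (R K V)} (hf : f ∈ RA K V)
    (hA : ∀ a ∈ A, f * a * f⁻¹ ∈ A) {X : R K V} (hX : X ∈ Lf A) : f X ∈ Lf A := by
  obtain ⟨x, rfl, hx⟩ := hX
  exact ⟨fU f hf x, rfl, fU_mem hf hA hx⟩

theorem map_DA {A : Subgroup (Equiv.Perm (R K V))} {f : Equiv.Perm (R K V)} (hf : f ∈ RA K V)
    (hA : ∀ a ∈ A, f * a * f⁻¹ ∈ A) {X : R K V} (hX : X ∈ DA A) : f X ∈ DA A := by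
  induction hX using Algebra.adjoin_induction with
  | mem X hX => exact lf_le_DA (map_lf hf hA hX)
  | algebraMap c =>
    rw [Algebra.algebraMap_eq_smul_one]
    obtain ⟨d, hd⟩ := ra_scalar hf c
    rw [hd]
    exact (DA A).smul_mem (DA A).one_mem d
  | add X Y _ _ hX hY => rw [ra_add hf]; exact (DA A).add_mem hX hY
  | mul X Y _ _ hX hY =>
    rcases hf.2 with h | h
    · rw [h]; exact (DA A).mul_mem hX hY
    · rw [h]; exact (DA A).mul_mem hY hX

theorem lf_mul {A : Subgroup (Equiv.Perm (R K V))} {X Y : R K V} (hX : X ∈ Lf A) (hY : Y ∈ Lf A) :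
    X * Y ∈ Lf A := by
  obtain ⟨x, rfl, hx⟩ := hX
  obtain ⟨y, rfl, hy⟩ := hY
  exact ⟨x * y, rfl, by rw [map_mul]; exact A.mul_mem hx hy⟩

theorem lf_one {A : Subgroup (Equiv.Perm (R K V))} : (1 : R K V) ∈ Lf A :=
  ⟨1, rfl, by rw [map_one]; exact A.one_mem⟩

/-- `K[A^]` is the span of the lifts -/
theorem DA_eq_span (A : Subgroup (Equiv.Perm (R K V))) :
    (DA A).toSubmodule = Submodule.span K (Lf A) := by
  unfold DA
  rw [Algebra.adjoin_eq_span]
  congr 1
  let M : Submonoid (R K V) := ⟨⟨Lf A, fun h1 h2 => lf_mul h1 h2⟩, lf_one⟩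
  have : Submonoid.closure (Lf A) = M := Submonoid.closure_eq M
  rw [this]
  rfl

/-! ### stable subspaces -/

theorem stb_of_idem {f : Equiv.Perm (R K V)} (hf : f ∈ RP K V) {e : R K V} (he : e * e = e)
    (hfe : f e = e) : Stb f (LinearMap.range e) := by
  intro X hX v
  have h1 : e * X = X := by
    ext w
    obtain ⟨w', hw'⟩ := hX w
    rw [Module.End.mul_apply, ← hw', ← Module.End.mul_apply, he]
  have h2 : e * f X = f X := by
    conv_rhs => rw [← h1, hf.2, hfe]
  exact ⟨f X v, by rw [← Module.End.mul_apply, h2]⟩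

/-- the subspace `{X | e X = X}` -/
def eR (e : R K V) : Submodule K (R K V) where
  carrier := {X | e * X = X}
  add_mem' := by
    intro X Y hX hY
    show e * (X + Y) = X + Y
    rw [mul_add, hX, hY]
  zero_mem' := mul_zero e
  smul_mem' := by
    intro c X hX
    show e * (c • X) = c • X
    rw [mul_smul_comm, hX]

theorem finrank_eR [FiniteDimensional K V] {e : R K V} (he : e * e = e) :
    finrank K (eR e) = finrank K V * finrank K (LinearMap.range e) := by
  rw [← Module.finrank_linearMap K K V (LinearMap.range e)]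
  refine LinearEquiv.finrank_eq
    { toFun := fun X => LinearMap.codRestrict (LinearMap.range e) (X : R K V) (fun v => ?_)
      invFun := fun Y => ⟨(LinearMap.range e).subtype ∘ₗ Y, ?_⟩
      map_add' := fun X Y => ?_
      map_smul' := fun c X => ?_
      left_inv := fun X => ?_
      right_inv := fun Y => ?_ }
  · exact ⟨(X : R K V) v, by rw [← Module.End.mul_apply]; exact LinearMap.congr_fun X.2 v⟩
  · ext v; rfl
  · ext v; rfl
  · show e * ((LinearMap.range e).subtype ∘ₗ Y) = (LinearMap.range e).subtype ∘ₗ Y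
    ext v
    obtain ⟨w, hw⟩ := (Y v).2
    show e (Y v : V) = (Y v : V)
    rw [← hw, ← Module.End.mul_apply, he]
  · ext v; rfl
  · ext v; rfl

/-- ring automorphisms preserve the rank of idempotents -/
theorem rank_map [Finite K] [FiniteDimensional K V] {f : Equiv.Perm (R K V)} (hf : f ∈ RP K V)
    {e : R K V} (he : e * e = e) (hn : 1 ≤ finrank K V) :
    finrank K (LinearMap.range (f e)) = finrank K (LinearMap.range e) := by
  have : Fintype K := Fintype.ofFinite K
  have hfe : f e * f e = f e := by rw [← hf.2, he]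
  have h1 : Nat.card (eR e) = Nat.card (eR (f e)) := by
    refine Nat.card_congr
      { toFun := fun X => ⟨f X, ?_⟩
        invFun := fun X => ⟨f.symm X, ?_⟩
        left_inv := fun X => ?_
        right_inv := fun X => ?_ }
    · show f e * f X = f X
      rw [← hf.2, X.2]
    · show e * f.symm X = f.symm X
      apply f.injective
      rw [hf.2, Equiv.apply_symm_apply]
      exact X.2
    · apply Subtype.ext
      exact f.symm_apply_apply _
    · apply Subtype.ext
      exact f.apply_symm_apply _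
  rw [Module.natCard_eq_pow_finrank (K := K) (V := eR e),
    Module.natCard_eq_pow_finrank (K := K) (V := eR (f e))] at h1
  have h2 := Nat.pow_right_injective (Finite.one_lt_card (α := K)) h1
  rw [finrank_eR he, finrank_eR hfe] at h2
  exact (Nat.eq_of_mul_eq_mul_left (by omega) h2).symm

end

/-! ### minimal normal subgroups of solvable groups -/

open scoped commutatorElement in

theorem exists_minimal {G : Type*} [Group G] [Finite G] (S N : Subgroup G) (hS : Group.IsSolvable S)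
    (hN : N ≠ ⊥) (hNS : N ≤ S) (hn : ∀ g ∈ S, ∀ a ∈ N, g * a * g⁻¹ ∈ N) :
    ∃ (A : Subgroup G) (r : ℕ), r.Prime ∧ A ≠ ⊥ ∧ A ≤ N ∧ (∀ g ∈ S, ∀ a ∈ A, g * a * g⁻¹ ∈ A) ∧
      (∀ B : Subgroup G, B ≤ A → (∀ g ∈ S, ∀ a ∈ B, g * a * g⁻¹ ∈ B) → B = ⊥ ∨ B = A) ∧
      (∀ a ∈ A, ∀ b ∈ A, a * b = b * a) ∧ (∀ a ∈ A, a ^ r = 1) := by
  obtain ⟨A, ⟨hA0, hAN, hAi⟩, hmin⟩ := wellFounded_lt.has_min
    {A : Subgroup G | A ≠ ⊥ ∧ A ≤ N ∧ ∀ g ∈ S, ∀ a ∈ A, g * a * g⁻¹ ∈ A} ⟨N, hN, le_rfl, hn⟩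
  have hmin' : ∀ B : Subgroup G, B ≤ A → (∀ g ∈ S, ∀ a ∈ B, g * a * g⁻¹ ∈ B) → B = ⊥ ∨ B = A := by
    intro B hB hi
    by_cases h0 : B = ⊥
    · exact Or.inl h0
    · right
      by_contra h
      exact hmin B ⟨h0, hB.trans hAN, hi⟩ (lt_of_le_of_ne hB h)
  -- `A` is abelian
  have hAS : A ≤ S := hAN.trans hNS
  have hcomm : ⁅A, A⁆ = ⊥ := by
    have hle : ⁅A, A⁆ ≤ A := by
      rw [Subgroup.commutator_le]
      intro a ha b hb
      rw [commutatorElement_def]
      exact A.mul_mem (A.mul_mem (A.mul_mem ha hb) (A.inv_mem ha)) (A.inv_mem hb)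
    rcases hmin' ⁅A, A⁆ hle (by
      intro g hg
      have : ⁅A, A⁆ ≤ (⁅A, A⁆).comap (MulAut.conj g).toMonoidHom := by
        rw [Subgroup.commutator_le]
        intro a ha b hb
        show g * ⁅a, b⁆ * g⁻¹ ∈ ⁅A, A⁆
        rw [conjugate_commutatorElement]
        exact Subgroup.commutator_mem_commutator (hAi g hg a ha) (hAi g hg b hb)
      intro a ha
      exact this ha) with h | h
    · exact h
    · exfalso
      have hH : A.subgroupOf S ≠ ⊥ := by
        intro h0
        apply hA0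
        rw [Subgroup.subgroupOf_eq_bot, disjoint_iff, inf_eq_left.2 hAS] at h0
        exact h0
      have h1 := Group.IsSolvable.commutator_lt_of_ne_bot (G := S) hH
      have h2 : ⁅A.subgroupOf S, A.subgroupOf S⁆ = A.subgroupOf S := by
        apply Subgroup.map_injective S.subtype_injective
        rw [Subgroup.map_commutator, Subgroup.map_subgroupOf_eq_of_le hAS, h]
      exact absurd h2 (ne_of_lt h1)
  have hab : ∀ a ∈ A, ∀ b ∈ A, a * b = b * a := by
    intro a ha b hb
    have h1 : ⁅a, b⁆ ∈ ⁅A, A⁆ := Subgroup.commutator_mem_commutator ha hb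
    rw [hcomm, Subgroup.mem_bot, commutatorElement_eq_one_iff_mul_comm] at h1
    exact h1
  have hcard : Nat.card A ≠ 1 := by
    intro h
    exact hA0 (Subgroup.card_eq_one.1 h)
  obtain ⟨r, hr, hrA⟩ := Nat.exists_prime_and_dvd hcard
  have : Fact r.Prime := ⟨hr⟩
  refine ⟨A, r, hr, hA0, hAN, hAi, hmin', hab, ?_⟩
  -- the elements of order `r`
  let B : Subgroup G :=
    { carrier := {a | a ∈ A ∧ a ^ r = 1}
      mul_mem' := by
        rintro a b ⟨ha, ha'⟩ ⟨hb, hb'⟩
        refine ⟨A.mul_mem ha hb, ?_⟩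
        rw [(show Commute a b from hab a ha b hb).mul_pow, ha', hb', one_mul]
      one_mem' := ⟨A.one_mem, one_pow r⟩
      inv_mem' := by
        rintro a ⟨ha, ha'⟩
        exact ⟨A.inv_mem ha, by rw [inv_pow, ha', inv_one]⟩ }
  rcases hmin' B (fun a ha => ha.1) (by
    intro g hg a ha
    refine ⟨hAi g hg a ha.1, ?_⟩
    rw [conj_pow, ha.2, mul_one, mul_inv_cancel]) with h | h
  · exfalso
    obtain ⟨a, ha⟩ := exists_prime_orderOf_dvd_card' r hrA
    have h1 : (a : G) ∈ B := by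
      refine ⟨a.2, ?_⟩
      have := pow_orderOf_eq_one a
      rw [ha] at this
      rw [← Subgroup.coe_pow, this]
      rfl
    rw [h, Subgroup.mem_bot] at h1
    have h2 : a = 1 := Subtype.ext h1
    rw [h2, orderOf_one] at ha
    exact hr.one_lt.ne ha
  · intro a ha
    rw [← h] at ha
    exact ha.2

end Cfsg.Agent.H886.FC
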