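import Cfsg.Agent.H886.FC.Base

/-!
# S5764, classification: the lifts commute

`K[A^]` is commutative, every element satisfies `d ^ Q = d`: idempotents, or a field.
-/

set_option autoImplicit false

universe u v

namespace Cfsg.Agent.H886.FC

open Module Cfsg.Agent.H198.FC

section

variable {K : Type u} [Field K] {V : Type v} [AddCommGroup V] [Module K V]

theorem DA_comm {A : Subgroup (Equiv.Perm (R K V))} (h : ∀ X ∈ Lf A, ∀ Y ∈ Lf A, X * Y = Y * X)
    {X Y : R K V} (hX : X ∈ DA A) (hY : Y ∈ DA A) : X * Y = Y * X := by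
  have h1 : DA A ≤ Subalgebra.centralizer K (Lf A) := by
    apply Algebra.adjoin_le
    intro X hX
    exact Subalgebra.mem_centralizer_iff K |>.2 fun Y hY => h Y hY X hX
  have h2 : DA A ≤ Subalgebra.centralizer K (DA A : Set (R K V)) := by
    apply Algebra.adjoin_le
    intro X hX
    exact Subalgebra.mem_centralizer_iff K |>.2 fun Y hY =>
      ((Subalgebra.mem_centralizer_iff K).1 (h1 hY) X hX).symm
  exact ((Subalgebra.mem_centralizer_iff K).1 (h2 hY)) X hX

/-- all elements of `K[A^]` satisfy `d ^ (q ^ m) = d` -/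
theorem exists_Q [Finite K] {A : Subgroup (Equiv.Perm (R K V))} {r : ℕ} (hr : r.Prime)
    (hrK : (r : K) ≠ 0) (hAr : ∀ a ∈ A, a ^ r = 1)
    (h : ∀ X ∈ Lf A, ∀ Y ∈ Lf A, X * Y = Y * X) :
    ∃ Q : ℕ, 2 ≤ Q ∧ ∀ X ∈ DA A, X ^ Q = X := by
  have : Fintype K := Fintype.ofFinite K
  obtain ⟨p, hp⟩ := CharP.exists K
  obtain ⟨⟨k, hk0⟩, hpp, hk⟩ := FiniteField.card K p
  have : Fact p.Prime := ⟨hpp⟩
  set q := Fintype.card K with hq
  have hq1 : 1 < q := Fintype.one_lt_card
  have hrq : Nat.Coprime q r := by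
    rw [hk]
    apply Nat.Coprime.pow_left
    rw [Nat.coprime_primes hpp hr]
    rintro rfl
    exact hrK (CharP.cast_eq_zero K p)
  have hqq : Nat.Coprime q (q - 1) := by
    have := Nat.coprime_self_sub_right (m := 1) (n := q) hq1.le
    simpa using this
  have hco : Nat.Coprime q (r * (q - 1)) := Nat.Coprime.mul_right hrq hqq
  set N := r * (q - 1) with hN
  have hN0 : 0 < N := Nat.mul_pos hr.pos (by omega)
  set m := Nat.totient N with hm
  have hm0 : 0 < m := Nat.totient_pos.2 hN0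
  have hmod : q ^ m ≡ 1 [MOD N] := Nat.ModEq.pow_totient hco
  have hQ2 : 2 ≤ q ^ m := by
    calc 2 ≤ q := hq1
      _ = q ^ 1 := (pow_one q).symm
      _ ≤ q ^ m := Nat.pow_le_pow_right (by omega) hm0
  refine ⟨q ^ m, hQ2, ?_⟩
  have hlf : ∀ X ∈ Lf A, X ^ (q ^ m) = X := by
    rintro _ ⟨x, rfl, hx⟩
    have h1 : cj K V (x ^ r) = 1 := by rw [map_pow, hAr _ hx]
    obtain ⟨c, hc⟩ := cj_eq_one h1
    have h2 : ((x : R K V)) ^ N = 1 := by
      rw [hN, pow_mul, ← Units.val_pow_eq_pow_val, hc, smul_pow, one_pow]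
      by_cases hc0 : c = 0
      · rw [hc0, zero_smul] at hc
        have h3 : (x ^ r : (R K V)ˣ) * ((x ^ r)⁻¹ : (R K V)ˣ) = (1 : (R K V)ˣ) := mul_inv_cancel _
        have h4 := congrArg (fun u : (R K V)ˣ => (u : R K V)) h3
        simp only [Units.val_mul, hc, zero_mul, Units.val_one] at h4
        have : Subsingleton (R K V) := subsingleton_of_zero_eq_one h4
        exact Subsingleton.elim _ _
      · rw [FiniteField.pow_card_sub_one_eq_one c hc0, one_smul]
    obtain ⟨t, ht⟩ := (Nat.modEq_iff_dvd' (by omega)).1 hmod.symm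
    have h3 : q ^ m = N * t + 1 := by omega
    rw [h3, pow_succ, pow_mul, h2, one_pow, one_mul]
  intro X hX
  have hX' : X ∈ Submodule.span K (Lf A) := by
    rw [← DA_eq_span]
    exact hX
  have hsub : ∀ Y ∈ Submodule.span K (Lf A), Y ∈ DA A := fun Y hY => by
    rw [← DA_eq_span] at hY
    exact hY
  by_cases hnt : Nontrivial (R K V)
  · have : CharP (R K V) p := charP_of_injective_algebraMap (algebraMap K (R K V)).injective p
    induction hX' using Submodule.span_induction with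
    | mem Y hY => exact hlf Y hY
    | zero => exact zero_pow (by positivity)
    | add Y Z hY hZ ihY ihZ =>
      have hc : Commute Y Z := DA_comm h (hsub Y hY) (hsub Z hZ)
      have h4 : q ^ m = p ^ (k * m) := by rw [hk, pow_mul]; rfl
      rw [h4] at ihY ihZ ⊢
      rw [add_pow_char_pow_of_commute p (k * m) hc, ihY (hsub Y hY), ihZ (hsub Z hZ)]
    | smul c Y hY ih =>
      rw [smul_pow, ih (hsub Y hY), FiniteField.pow_card_pow]
  · rw [not_nontrivial_iff_subsingleton] at hnt
    exact Subsingleton.elim _ _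

/-! ### primitive idempotents -/

/-- the primitive idempotents of `K[A^]` -/
def Prim (A : Subgroup (Equiv.Perm (R K V))) : Set (R K V) :=
  {e | e ∈ DA A ∧ e * e = e ∧ e ≠ 0 ∧ ∀ g ∈ DA A, g * g = g → g * e = g → g = 0 ∨ g = e}

variable {A : Subgroup (Equiv.Perm (R K V))}

theorem prim_ortho (hc : ∀ X ∈ Lf A, ∀ Y ∈ Lf A, X * Y = Y * X) {e e' : R K V} (he : e ∈ Prim A)
    (he' : e' ∈ Prim A) (hne : e ≠ e') : e * e' = 0 := by
  have hcm : e * e' = e' * e := DA_comm hc he.1 he'.1
  have h1 : (e * e') * (e * e') = e * e' := by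
    calc (e * e') * (e * e') = e * (e' * e) * e' := by simp only [mul_assoc]
      _ = e * (e * e') * e' := by rw [hcm]
      _ = (e * e) * (e' * e') := by simp only [mul_assoc]
      _ = e * e' := by rw [he.2.1, he'.2.1]
  have h2 : (e * e') * e = e * e' := by
    rw [hcm, mul_assoc, he.2.1]
  have h3 : (e * e') * e' = e * e' := by rw [mul_assoc, he'.2.1]
  rcases he.2.2.2 _ ((DA A).mul_mem he.1 he'.1) h1 h2 with h | h
  · exact h
  · rcases he'.2.2.2 _ ((DA A).mul_mem he.1 he'.1) h1 h3 with h' | h'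
    · exact h'
    · exact absurd (h.symm.trans h') hne

theorem prim_map (hc : ∀ X ∈ Lf A, ∀ Y ∈ Lf A, X * Y = Y * X) {f : Equiv.Perm (R K V)}
    (hf : f ∈ RA K V) (hfA : ∀ a ∈ A, f * a * f⁻¹ ∈ A) (hfA' : ∀ a ∈ A, f⁻¹ * a * f⁻¹⁻¹ ∈ A)
    {e : R K V} (he : e ∈ Prim A) : f e ∈ Prim A := by
  have hf' : f⁻¹ ∈ RA K V := inv_mem hf
  have hff : ∀ X, f⁻¹ (f X) = X := fun X => f.symm_apply_apply X
  have hff' : ∀ X, f (f⁻¹ X) = X := fun X => f.apply_symm_apply X
  refine ⟨map_DA hf hfA he.1, ?_, ?_, ?_⟩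
  · rw [← ra_mul_of_comm hf rfl, he.2.1]
  · intro h
    apply he.2.2.1
    apply f.injective
    rw [h, ra_zero hf]
  · intro g hg hgg hge
    have h1 : f⁻¹ g ∈ DA A := map_DA hf' hfA' hg
    have h2 : f⁻¹ g * f⁻¹ g = f⁻¹ g := by rw [← ra_mul_of_comm hf' rfl, hgg]
    have h3 : f⁻¹ g * e = f⁻¹ g := by
      have h4 : g * f e = f e * g := DA_comm hc hg (map_DA hf hfA he.1)
      have h5 := ra_mul_of_comm hf' h4
      rw [hge, hff] at h5
      exact h5.symm
    rcases he.2.2.2 _ h1 h2 h3 with h | h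
    · left
      rw [← hff' g, h, ra_zero hf]
    · right
      rw [← hff' g, h]

theorem exists_prim [FiniteDimensional K V] (hc : ∀ X ∈ Lf A, ∀ Y ∈ Lf A, X * Y = Y * X)
    (n : ℕ) : ∀ g : R K V, finrank K (LinearMap.range g) = n → g ∈ DA A → g * g = g → g ≠ 0 →
      ∃ e ∈ Prim A, e * g = e := by
  induction n using Nat.strong_induction_on with
  | _ n ih =>
    intro g hgn hg hgg hg0
    by_cases hp : ∀ e ∈ DA A, e * e = e → e * g = e → e = 0 ∨ e = g
    · exact ⟨g, ⟨hg, hgg, hg0, hp⟩, hgg⟩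
    push Not at hp
    obtain ⟨e, he, hee, heg, he0, hne⟩ := hp
    have hcm : e * g = g * e := DA_comm hc he hg
    have hge : g * e = e := by rw [← hcm, heg]
    have hle : LinearMap.range e ≤ LinearMap.range g := by
      rintro _ ⟨v, rfl⟩
      exact ⟨e v, by rw [← Module.End.mul_apply, hge]⟩
    have hlt : finrank K (LinearMap.range e) < finrank K (LinearMap.range g) := by
      rcases lt_or_eq_of_le (Submodule.finrank_mono hle) with h | h
      · exact h
      · exfalso
        apply hne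
        have h1 := Submodule.eq_of_le_of_finrank_eq hle h
        have h2 : e * g = g := by
          ext v
          have h3 : g v ∈ LinearMap.range e := by rw [h1]; exact ⟨v, rfl⟩
          obtain ⟨w, hw⟩ := h3
          rw [Module.End.mul_apply, ← hw, ← Module.End.mul_apply, hee]
        rw [← heg, h2]
    obtain ⟨e', he', h'⟩ := ih _ (by omega) e rfl he hee he0
    exact ⟨e', he', by rw [← h', mul_assoc, heg]⟩

/-- the finite set of primitive idempotents -/
theorem exists_finset [Finite K] [FiniteDimensional K V]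
    (hc : ∀ X ∈ Lf A, ∀ Y ∈ Lf A, X * Y = Y * X) :
    ∃ P : Finset (R K V), (∀ e, e ∈ P ↔ e ∈ Prim A) ∧ ∑ e ∈ P, e = 1 := by
  classical
  have : Finite V := Module.finite_of_finite K
  have : Finite (R K V) := Module.finite_of_finite K
  have hfin : (Prim A).Finite := Set.toFinite _
  refine ⟨hfin.toFinset, fun e => hfin.mem_toFinset, ?_⟩
  set s := ∑ e ∈ hfin.toFinset, e with hs
  have hmem : s ∈ DA A := (DA A).sum_mem fun e he => ((hfin.mem_toFinset).1 he).1
  have hes : ∀ e ∈ Prim A, e * s = e := by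
    intro e he
    rw [hs, Finset.mul_sum, Finset.sum_eq_single e]
    · exact he.2.1
    · intro g hg hge
      exact prim_ortho hc he ((hfin.mem_toFinset).1 hg) hge.symm
    · intro h
      exact absurd ((hfin.mem_toFinset).2 he) h
  have hss : s * s = s := by
    conv_lhs => rw [hs, Finset.sum_mul]
    exact Finset.sum_congr rfl fun e he => hes e ((hfin.mem_toFinset).1 he)
  by_contra hne
  have h1 : (1 - s) * (1 - s) = 1 - s := by
    rw [mul_sub, mul_one, sub_mul, one_mul, hss]
    abel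
  obtain ⟨e, he, h2⟩ := exists_prim hc _ (1 - s) rfl ((DA A).sub_mem (DA A).one_mem hmem) h1
    (fun h => hne (sub_eq_zero.1 h).symm)
  rw [mul_sub, mul_one, hes e he, sub_self] at h2
  exact he.2.2.1 h2.symm

/-- the field case -/
theorem isField_DA [FiniteDimensional K V] [Nontrivial V]
    (hc : ∀ X ∈ Lf A, ∀ Y ∈ Lf A, X * Y = Y * X) {Q : ℕ} (hQ : 2 ≤ Q)
    (hQd : ∀ X ∈ DA A, X ^ Q = X) (h1 : ∀ e ∈ Prim A, e = 1) : IsField (DA A) := by
  refine ⟨⟨0, 1, fun h => ?_⟩, fun x y => Subtype.ext (DA_comm hc x.2 y.2), fun {a} ha => ?_⟩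
  · have : (0 : R K V) = 1 := congrArg Subtype.val h
    exact zero_ne_one this
  · have ha' : (a : R K V) ≠ 0 := fun h => ha (Subtype.ext h)
    obtain ⟨t, rfl⟩ : ∃ t, Q = t + 2 := ⟨Q - 2, by omega⟩
    have hx := hQd a a.2
    set x : R K V := (a : R K V) with hxdef
    have e1 : x ^ (t + 1) * x ^ (t + 1) = x ^ (t + 1) := by
      calc x ^ (t + 1) * x ^ (t + 1) = x ^ (t + 2) * x ^ t := by
            rw [← pow_add, ← pow_add]; congr 1; ring
        _ = x ^ (t + 1) := by rw [hx, ← pow_succ']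
    have e2 : x ^ (t + 1) ≠ 0 := by
      intro h
      apply ha'
      rw [← hx, pow_succ, h, zero_mul]
    obtain ⟨e, he, h2⟩ := exists_prim hc _ (x ^ (t + 1)) rfl ((DA A).pow_mem a.2 _) e1 e2
    rw [h1 e he, one_mul] at h2
    refine ⟨⟨x ^ t, (DA A).pow_mem a.2 t⟩, Subtype.ext ?_⟩
    show x * x ^ t = 1
    rw [← pow_succ', h2]

/-- the subfield of prime degree, stable under all elements of `RA` which stabilize `E` -/
theorem exists_sub [Finite K] [FiniteDimensional K V] (E : Subalgebra K (R K V)) (hE : IsField E)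
    (hbot : E ≠ ⊥) : ∃ E' : Subalgebra K (R K V), IsField E' ∧ (finrank K E').Prime ∧
      ∀ f : Equiv.Perm (R K V), f ∈ RA K V → (∀ X ∈ E, f X ∈ E) → ∀ X ∈ E', f X ∈ E' := by
  classical
  let iE : Field E := hE.toField
  have : Fintype K := Fintype.ofFinite K
  have : Finite (R K V) := Module.finite_of_finite K
  have : Finite E := inferInstance
  have : Fintype E := Fintype.ofFinite E
  obtain ⟨p, hp⟩ := CharP.exists K
  obtain ⟨⟨k, hk0⟩, hpp, hk⟩ := FiniteField.card K p
  have : Fact p.Prime := ⟨hpp⟩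
  have : CharP E p := charP_of_injective_algebraMap (algebraMap K E).injective p
  have hq1 : 1 < Fintype.card K := Fintype.one_lt_card
  set q := Fintype.card K with hq
  set m := finrank K E with hm
  have hcard : Fintype.card E = q ^ m := Module.card_eq_pow_finrank
  have hm1 : m ≠ 1 := by
    intro h
    apply hbot
    exact Subalgebra.eq_bot_of_finrank_one h
  have hm0 : m ≠ 0 := by
    intro h
    rw [h, pow_zero] at hcard
    have : 1 < Fintype.card E := Fintype.one_lt_card
    omega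
  obtain ⟨l, hl, hlm⟩ := Nat.exists_prime_and_dvd hm1
  have hql : 1 < q ^ l := Nat.one_lt_pow hl.ne_zero hq1
  have hpl : q ^ l = p ^ (k * l) := by rw [hk, pow_mul]; rfl
  have hEc : ∀ X ∈ E, ∀ Y ∈ E, X * Y = Y * X := fun X hX Y hY =>
    congrArg Subtype.val (hE.mul_comm ⟨X, hX⟩ ⟨Y, hY⟩)
  have hadd : ∀ x y : E, (x + y) ^ (q ^ l) = x ^ (q ^ l) + y ^ (q ^ l) := by
    intro x y
    rw [hpl, add_pow_char_pow]
  -- the fixed elements of the `q ^ l`-power map
  let E' : Subalgebra K (R K V) :=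
    { carrier := {X | X ∈ E ∧ X ^ (q ^ l) = X}
      mul_mem' := by
        rintro X Y ⟨hX, hX'⟩ ⟨hY, hY'⟩
        refine ⟨E.mul_mem hX hY, ?_⟩
        rw [(show Commute X Y from hEc X hX Y hY).mul_pow, hX', hY']
      add_mem' := by
        rintro X Y ⟨hX, hX'⟩ ⟨hY, hY'⟩
        refine ⟨E.add_mem hX hY, ?_⟩
        have := congrArg Subtype.val (hadd ⟨X, hX⟩ ⟨Y, hY⟩)
        simpa [hX', hY'] using this
      algebraMap_mem' := by
        intro c
        refine ⟨E.algebraMap_mem c, ?_⟩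
        rw [← map_pow, FiniteField.pow_card_pow] }
  have hmem : ∀ X, X ∈ E' ↔ X ∈ E ∧ X ^ (q ^ l) = X := fun X => Iff.rfl
  have hE'card : Nat.card E' = q ^ l := by
    -- `E'` is `0` and the kernel of the `q ^ l - 1`-power map
    have h1 : Nat.card (powMonoidHom (q ^ l - 1) : Eˣ →* Eˣ).ker = q ^ l - 1 := by
      rw [IsCyclic.card_powMonoidHom_ker, Nat.card_units, Nat.card_eq_fintype_card, hcard]
      apply Nat.gcd_eq_right
      obtain ⟨t, ht⟩ := hlm
      rw [ht, pow_mul]
      have := Nat.sub_dvd_pow_sub_pow (q ^ l) 1 t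
      rwa [one_pow] at this
    have hu : ∀ u : Eˣ, u ^ (q ^ l - 1) = 1 → (u : E) ^ (q ^ l) = (u : E) := by
      intro u h3
      have h5 : q ^ l = (q ^ l - 1) + 1 := by omega
      rw [h5, pow_succ, ← Units.val_pow_eq_pow_val, h3, Units.val_one, one_mul]
    have h2 : Nat.card E' = Nat.card (Option (powMonoidHom (q ^ l - 1) : Eˣ →* Eˣ).ker) := by
      symm
      refine Nat.card_eq_of_bijective (fun o => match o with
        | none => (⟨0, by rw [hmem]; exact ⟨E.zero_mem, zero_pow (by omega)⟩⟩ : E')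
        | some u => ⟨((u : Eˣ) : E), by
            rw [hmem]
            refine ⟨((u : Eˣ) : E).2, ?_⟩
            exact congrArg (fun z : E => (z : R K V)) (hu (u : Eˣ) u.2)⟩) ⟨?_, ?_⟩
      · rintro (_ | u) (_ | w) h
        · rfl
        · exfalso
          have h3 := congrArg (fun z : E' => (z : R K V)) h
          have h4 : ((w : Eˣ) : E) = 0 := Subtype.ext h3.symm
          exact (w : Eˣ).ne_zero h4
        · exfalso
          have h3 := congrArg (fun z : E' => (z : R K V)) h
          have h4 : ((u : Eˣ) : E) = 0 := Subtype.ext h3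
          exact (u : Eˣ).ne_zero h4
        · have h3 := congrArg (fun z : E' => (z : R K V)) h
          have h4 : ((u : Eˣ) : E) = ((w : Eˣ) : E) := Subtype.ext h3
          rw [Subtype.ext (Units.ext h4)]
      · rintro ⟨X, hX⟩
        obtain ⟨hX1, hX2⟩ := (hmem X).1 hX
        by_cases h0 : X = 0
        · subst h0
          exact ⟨none, rfl⟩
        · have h3 : (⟨X, hX1⟩ : E) ≠ 0 := fun h => h0 (congrArg Subtype.val h)
          have h4 : (Units.mk0 (⟨X, hX1⟩ : E) h3) ^ (q ^ l - 1) = 1 := by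
            apply Units.ext
            rw [Units.val_pow_eq_pow_val, Units.val_mk0, Units.val_one]
            have h5 : (⟨X, hX1⟩ : E) ^ (q ^ l) = ⟨X, hX1⟩ := Subtype.ext hX2
            have h6 : q ^ l = (q ^ l - 1) + 1 := by omega
            rw [h6, pow_succ] at h5
            exact mul_right_cancel₀ h3 (h5.trans (one_mul _).symm)
          exact ⟨some ⟨Units.mk0 ⟨X, hX1⟩ h3, h4⟩, rfl⟩
    rw [h2, Finite.card_option, h1]
    omega
  refine ⟨E', ?_, ?_, ?_⟩
  · refine ⟨⟨0, 1, fun h => ?_⟩, fun x y => Subtype.ext (hEc x x.2.1 y y.2.1), fun {a} ha => ?_⟩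
    · have h0 : (0 : E) = 1 := Subtype.ext (congrArg (fun z : E' => (z : R K V)) h)
      exact zero_ne_one h0
    · have h3 : (⟨a, a.2.1⟩ : E) ≠ 0 := fun h =>
        ha (Subtype.ext (congrArg (fun z : E => (z : R K V)) h))
      refine ⟨⟨(((⟨a, a.2.1⟩ : E)⁻¹ : E) : R K V), (hmem _).2 ⟨((⟨a, a.2.1⟩ : E)⁻¹ : E).2, ?_⟩⟩, ?_⟩
      · have h4 : ((⟨a, a.2.1⟩ : E)⁻¹ : E) ^ (q ^ l) = (⟨a, a.2.1⟩ : E)⁻¹ := by
          rw [inv_pow]
          congr 1
          exact Subtype.ext a.2.2
        exact congrArg (fun z : E => (z : R K V)) h4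
      · apply Subtype.ext
        exact congrArg (fun z : E => (z : R K V)) (mul_inv_cancel₀ h3)
  · have : Finite E' := inferInstance
    rw [Module.natCard_eq_pow_finrank (K := K) (V := E'), Nat.card_eq_fintype_card] at hE'card
    rw [Nat.pow_right_injective hq1 hE'card]
    exact hl
  · intro f hf hfE X hX
    obtain ⟨h1, h2⟩ := (hmem X).1 hX
    exact (hmem _).2 ⟨hfE X h1, by rw [← ra_pow hf, h2]⟩

end

end Cfsg.Agent.H886.FC
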